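import Cfsg.Agent.Lib.Kondo.W

/-!
Elementary abelian subgroups of maximal rank and involutions of `Z₂ ≀ S_{2n}`.
-/

set_option autoImplicit false

namespace Cfsg.Lib.Kondo

open Equiv KW Subgroup

variable {n : ℕ}

/-- the elements preserving the blocks -/
def BP (w : KW n) : Prop := ∀ i, (w.σ (i, 0)).1 = (w.σ (i, 1)).1

theorem sh_single (i : Fin n) (x : ZMod 2) : sh (Pi.single i 1) = swap (i, x) (i, x + 1) := by
  ext ⟨j, y⟩ : 1
  by_cases hj : j = i
  · subst hj
    have : y = x ∨ y = x + 1 := by revert x y; decide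
    rcases this with rfl | rfl
    · simp
    · simp [add_assoc, z2_add]
  · rw [swap_apply_of_ne_of_ne (by simp [hj]) (by simp [hj])]
    simp [hj]

/-- a `2`-subgroup containing `J` preserves the blocks -/
theorem bp_of_isPGroup {S : Subgroup (KW n)} (hS : IsPGroup 2 S) (hJ : KJ n ≤ S) {w : KW n}
    (hw : w ∈ S) : BP w := by
  intro j
  by_contra hne
  set p := w.σ (j, 0) with hp
  set q := w.σ (j, 1) with hq
  have h1 : jj 0 0 (Pi.single p.1 1) * (w * jj 0 0 (Pi.single j 1) * w⁻¹) ∈ S :=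
    mul_mem (hJ (jj_mem ..)) (mul_mem (mul_mem hw (hJ (jj_mem ..))) (inv_mem hw))
  obtain ⟨k, hk⟩ := hS ⟨_, h1⟩
  have h2 := congrArg (fun x : S => σH (x : KW n)) hk
  simp only [SubgroupClass.coe_pow, map_pow, map_mul, σH_apply, jj_σ, OneMemClass.coe_one,
    map_one, map_inv] at h2
  rw [sh_single p.1 p.2, sh_single j 0, ← swap_apply_apply, zero_add, ← hp, ← hq] at h2
  have h3 : (swap (p.1, p.2) (p.1, p.2 + 1) * swap p q).IsThreeCycle :=
    Perm.isThreeCycle_swap_mul_swap_same (fun e => by simpa using congrArg Prod.snd e)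
      (fun e => hne (congrArg Prod.fst e)) (fun e => hne (by rw [← e]))
  have h4 := orderOf_dvd_of_pow_eq_one h2
  rw [h3.orderOf] at h4
  exact absurd (Nat.Prime.dvd_of_dvd_pow Nat.prime_three h4) (by norm_num)

theorem BP.fst {w : KW n} (h : BP w) (i : Fin n) (x : ZMod 2) :
    (w.σ (i, x)).1 = (w.σ (i, 0)).1 := by
  rcases z2_cases x with rfl | rfl
  · rfl
  · exact (h i).symm

theorem four_mul_le (m : ℕ) (h : 1 ≤ m) : 4 * m ≤ 4 ^ m := by
  induction m, h using Nat.le_induction with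
  | base => simp
  | succ k hk ih => rw [pow_succ]; omega

theorem four_mul_lt (m : ℕ) (h : 2 ≤ m) : 4 * m < 4 ^ m := by
  induction m, h using Nat.le_induction with
  | base => simp
  | succ k hk ih => rw [pow_succ]; omega

/-- the elementary abelian subgroups of order at least `4 ^ n` preserving the blocks -/
theorem eq_KB {B : Subgroup (KW n)} (hB : ∀ x ∈ B, BP x) (h2 : ∀ x ∈ B, x * x = 1)
    (hc : 4 ^ n ≤ Nat.card B) : ∃ β, B = KB β := by
  classical
  have hcomm : ∀ x ∈ B, ∀ y ∈ B, x * y = y * x := fun x hx y hy => by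
    have h1 : ∀ z ∈ B, z⁻¹ = z := fun z hz => inv_eq_of_mul_eq_one_left (h2 z hz)
    rw [← h1 _ (mul_mem hx hy), mul_inv_rev, h1 x hx, h1 y hy]
  obtain ⟨β, hβ⟩ := exists_le_KB (K := B ⊓ KJ n) inf_le_right fun x hx => h2 x hx.1
  suffices h : B ≤ KJ n by
    rw [inf_eq_left.mpr h] at hβ
    exact ⟨β, Subgroup.eq_of_le_of_card_ge hβ (by rwa [card_KB])⟩
  let act : MulAction B (Fin n) :=
    { smul := fun b i => ((b : KW n).σ (i, 0)).1
      one_smul := fun i => rfl
      mul_smul := fun a b i => by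
        change ((a : KW n).σ ((b : KW n).σ (i, 0))).1 = ((a : KW n).σ (_, 0)).1
        exact (hB a a.2).fst _ _ }
  have hs : ∀ (b : B) (i : Fin n), b • i = ((b : KW n).σ (i, 0)).1 := fun _ _ => rfl
  let Q := MulAction.orbitRel.Quotient B (Fin n)
  have : Fintype Q := Fintype.ofFinite Q
  have hQ : ∀ i : Fin n, ∃ (q : Q) (b : B), b • q.out = i := fun i => by
    have := Quotient.mk_out (s := MulAction.orbitRel B (Fin n)) i
    obtain ⟨b, hb⟩ := (MulAction.orbitRel B (Fin n)).symm this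
    exact ⟨_, b, hb⟩
  have hJ : ∀ b : B, (∀ i : Fin n, b • i = i) → (b : KW n) ∈ KJ n := fun b hb => by
    obtain ⟨π, a, d, v, e⟩ := exists_eq_bp_mul (hB b b.2)
    have : π = 1 := by
      ext i : 1
      have := hb i
      rw [hs, e] at this
      simpa using this
    subst this
    refine ⟨a, d, v, e.trans ?_⟩
    ext p <;> simp
  let m : Q → ℕ := fun q => (MulAction.orbit B q.out).ncard
  have hm1 : ∀ q, 1 ≤ m q := fun q =>
    (Set.ncard_pos (Set.toFinite _)).mpr ⟨_, MulAction.mem_orbit_self _⟩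
  have hsum : ∑ q, m q = n := by
    have := Nat.card_congr (MulAction.selfEquivSigmaOrbits B (Fin n))
    rw [Nat.card_sigma, Nat.card_eq_fintype_card, Fintype.card_fin] at this
    exact this.symm
  -- the kernel
  let K : Subgroup B := ⨅ q : Q, MulAction.stabilizer B q.out
  have hK : ∀ b ∈ K, ∀ i : Fin n, b • i = i := fun b hb i => by
    obtain ⟨q, c, rfl⟩ := hQ i
    have h1 : b • q.out = q.out := mem_iInf.mp hb q
    rw [← mul_smul, show b * c = c * b from Subtype.ext (hcomm _ b.2 _ c.2), mul_smul, h1]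
  have hidx : K.index ≤ ∏ q, m q := by
    refine (index_iInf_le _).trans (le_of_eq (Finset.prod_congr rfl fun q _ => ?_))
    exact MulAction.index_stabilizer B q.out
  have hKc : Nat.card K ≤ ∏ _q : Q, 4 := by
    have hx : ∀ x : K, ∃ a d v, ((x : B) : KW n) = jj a d v := fun x => hJ x (hK x x.2)
    choose a d v hx using hx
    have hβ' : ∀ x : K, β * d x = 0 ∧ (1 + β) * v x = 0 := fun x =>
      jj_mem_KB.mp (hx x ▸ hβ ⟨(x : B).2, hJ x (hK x x.2)⟩)
    have hinj : Function.Injective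
        fun (x : K) (q : Q) => (a x q.out, d x q.out + v x q.out) := by
      intro x y hxy
      refine Subtype.ext (Subtype.ext ?_)
      rw [hx x, hx y, jj_inj, funext_iff, funext_iff, funext_iff, ← forall_and, ← forall_and]
      intro i
      obtain ⟨q, c, rfl⟩ := hQ i
      obtain ⟨π, a', d', v', e⟩ := exists_eq_bp_mul (hB c c.2)
      have hπ : c • q.out = π q.out := by rw [hs, e]; simp
      have key : ∀ z : K, a z (π q.out) = a z q.out + v z q.out * d' q.out + v' q.out * d z q.out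
          ∧ d z (π q.out) = d z q.out ∧ v z (π q.out) = v z q.out := fun z => by
        have h1 := hcomm _ c.2 _ (z : B).2
        rw [← mul_inv_eq_iff_eq_mul, hx z, e, mul_inv_rev, show ∀ x y z : KW n,
          x * y * z * (y⁻¹ * x⁻¹) = x * (y * z * y⁻¹) * x⁻¹ by intros; group, jj_conj, bp_conj,
          jj_inj] at h1
        obtain ⟨e1, e2, e3⟩ := h1
        exact ⟨by simpa using (congrFun e1 (π q.out)).symm, by
          simpa using (congrFun e2 (π q.out)).symm, by simpa using (congrFun e3 (π q.out)).symm⟩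
      obtain ⟨e1, e2⟩ := Prod.mk.inj (congrFun hxy q)
      have e3 := congrFun (hβ' x).1 q.out
      have e4 := congrFun (hβ' x).2 q.out
      have e5 := congrFun (hβ' y).1 q.out
      have e6 := congrFun (hβ' y).2 q.out
      simp only [Pi.mul_apply, Pi.zero_apply, Pi.add_apply, Pi.one_apply] at e3 e4 e5 e6
      have e7 : d x q.out = d y q.out := by
        linear_combination (1 + β q.out) * e2 - e3 + e5 - e4 + e6
      have e8 : v x q.out = v y q.out := by linear_combination e2 - e7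
      rw [hπ, (key x).1, (key x).2.1, (key x).2.2, (key y).1, (key y).2.1, (key y).2.2, e1, e7, e8]
      exact ⟨rfl, rfl, rfl⟩
    refine (Nat.card_le_card_of_injective _ hinj).trans (le_of_eq ?_)
    simp
  have hle : 4 ^ n ≤ ∏ q, 4 * m q := by
    rw [Finset.prod_mul_distrib]
    exact hc.trans ((K.card_mul_index ▸ Nat.mul_le_mul hKc hidx))
  have hm : ∀ q, m q = 1 := fun q => by
    by_contra hq
    have := Finset.prod_lt_prod (s := Finset.univ) (f := fun q => 4 * m q) (g := fun q => 4 ^ m q)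
      (fun q _ => by have := hm1 q; omega) (fun q _ => four_mul_le _ (hm1 q))
      ⟨q, Finset.mem_univ _, four_mul_lt _ (by have := hm1 q; omega)⟩
    rw [Finset.prod_pow_eq_pow_sum, hsum] at this
    omega
  intro b hb
  refine hJ ⟨b, hb⟩ (hK _ (mem_iInf.mpr fun q => ?_))
  obtain ⟨j, hj⟩ := Set.ncard_eq_one.mp (hm q)
  have h1 : (⟨b, hb⟩ : B) • q.out ∈ MulAction.orbit B q.out := MulAction.mem_orbit _ _
  have h3 : q.out ∈ MulAction.orbit B q.out := MulAction.mem_orbit_self _
  rw [hj] at h1 h3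
  exact h1.trans h3.symm

theorem isConj_of_sq {α : Type*} [Fintype α] [DecidableEq α] {σ τ : Perm α} (h1 : σ * σ = 1)
    (h2 : τ * τ = 1) (h : σ.support.card = τ.support.card) : IsConj σ τ := by
  have e1 := Perm.cycleType_of_pow_prime_eq_one (σ := σ) (p := 2) (by rw [pow_two, h1])
  have e2 := Perm.cycleType_of_pow_prime_eq_one (σ := τ) (p := 2) (by rw [pow_two, h2])
  rw [← Perm.sum_cycleType, ← Perm.sum_cycleType, e1, e2, Multiset.sum_replicate,
    Multiset.sum_replicate, smul_eq_mul, smul_eq_mul] at h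
  rw [Perm.isConj_iff_cycleType_eq, e1, e2, show σ.cycleType.card = τ.cycleType.card by omega]

theorem eq_jj {w : KW n} {v : KR n} (h : w.σ = sh v) :
    w = jj (fun i => w.c (i, 0)) (fun i => w.c (i, 0) + w.c (i, 1)) v := by
  refine KW.ext (funext fun ⟨i, x⟩ => ?_) h
  rcases z2_cases x with rfl | rfl
  · simp
  · simp [← add_assoc, z2_add]

theorem exists_isConj_jj {w : KW n} (h : w * w = 1) : ∃ a d v, IsConj w (jj a d v) := by
  classical
  have h1 : w.σ * w.σ = 1 := congrArg KW.σ h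
  have e1 := Perm.cycleType_of_pow_prime_eq_one (σ := w.σ) (p := 2) (by rw [pow_two, h1])
  have e2 := w.σ.sum_cycleType
  rw [e1, Multiset.sum_replicate, smul_eq_mul] at e2
  have e3 := w.σ.support.card_le_univ
  simp only [Fintype.card_prod, Fintype.card_fin, ZMod.card] at e3
  obtain ⟨s, -, hs⟩ := Finset.exists_subset_card_eq (s := (Finset.univ : Finset (Fin n)))
    (n := w.σ.cycleType.card) (by simp; omega)
  let v : KR n := fun i => if i ∈ s then 1 else 0
  have e4 : (sh v).support = s ×ˢ Finset.univ := by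
    ext ⟨i, x⟩
    by_cases hi : i ∈ s <;> simp [v, hi]
  obtain ⟨ρ, hρ⟩ := isConj_iff.mp (isConj_of_sq h1 (τ := sh v) (mul_eq_one_iff_eq_inv.mpr rfl)
    (by rw [e4, ← e2]; simp [hs]))
  exact ⟨_, _, v, isConj_iff.mpr ⟨⟨fun _ => 0, ρ⟩, eq_jj hρ⟩⟩

theorem isConj_merge {a d v : KR n} (h : v * d = 0) {i j : Fin n} (hij : i ≠ j) (hi : d i = 1)
    (hj : d j = 1) : IsConj (jj a d v)
      (jj (Function.update a j (a i + 1)) (Function.update (Function.update d j 0) i 0) v) := by
  have vi : v i = 0 := by simpa [hi] using congrFun h i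
  have vj : v j = 0 := by simpa [hj] using congrFun h j
  refine isConj_iff.mpr ⟨⟨fun _ => 0, swap (i, 1) (j, a i + a j)⟩, ?_⟩
  rw [mul_inv_eq_iff_eq_mul]
  have key : ∀ p : KP n, p = (i, 1) ∨ p = (j, a i + a j) ∨ p = (i, 0) ∨ p = (j, a i + a j + 1) ∨
      (p.1 ≠ i ∧ p.1 ≠ j) := by
    rintro ⟨k, x⟩
    by_cases h1 : k = i
    · rcases z2_cases x with rfl | rfl <;> simp [h1]
    by_cases h2 : k = j
    · have : ∀ y : ZMod 2, x = y ∨ x = y + 1 := by revert x; decide
      rcases this (a i + a j) with rfl | rfl <;> simp [h2]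
    · simp [h1, h2]
  refine KW.ext (funext fun p => ?_) (Equiv.ext fun p => ?_)
  · rcases key p with rfl | rfl | rfl | rfl | ⟨h1, h2⟩
    · simp [hi, hij.symm]
    · simp [hj, hij, add_assoc, add_left_comm, z2_add]
    · simp [swap_apply_def, hij]
    · simp [swap_apply_def, hij.symm, hj]
      linear_combination z2_add (a j)
    · rw [mul_c, mul_c, swap_apply_of_ne_of_ne (fun e => h1 (congrArg Prod.fst e))
        (fun e => h2 (congrArg Prod.fst e))]
      simp [h1, h2]
  · rcases key p with rfl | rfl | rfl | rfl | ⟨h1, h2⟩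
    · simp [vi, vj]
    · simp [vi, vj]
    · simp [swap_apply_def, hij, vi]
    · simp [swap_apply_def, hij.symm, vj]
    · simp [swap_apply_def, Prod.ext_iff, h1, h2]

/-- every involution is conjugate into `A` or some `A'_i` -/
theorem exists_isConj_KB {w : KW n} (h : w * w = 1) :
    ∃ x, IsConj w x ∧ (x ∈ KB 1 ∨ ∃ i, x ∈ KB (1 + Pi.single i 1)) := by
  classical
  obtain ⟨a, d, v, hc⟩ := exists_isConj_jj h
  have h1 : v * d = 0 := by
    obtain ⟨g, hg⟩ := isConj_iff.mp hc
    rw [← jj_sq (a := a), ← hg, conj_mul, h, mul_one, mul_inv_cancel]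
  suffices ∀ m (a d : KR n), (Finset.univ.filter fun i => d i = 1).card = m → v * d = 0 →
      ∃ x, IsConj (jj a d v) x ∧ (x ∈ KB 1 ∨ ∃ i, x ∈ KB (1 + Pi.single i 1)) by
    obtain ⟨x, h2, h3⟩ := this _ a d rfl h1
    exact ⟨x, hc.trans h2, h3⟩
  intro m
  induction m using Nat.strong_induction_on with
  | _ m ih =>
  intro a d hm h1
  by_cases h2 : ∃ i, d i = 1
  · obtain ⟨i, hi⟩ := h2
    by_cases h3 : ∃ j, i ≠ j ∧ d j = 1
    · obtain ⟨j, hij, hj⟩ := h3
      obtain ⟨x, h4, h5⟩ := ih _ (by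
        rw [← hm]
        refine Finset.card_lt_card ⟨fun k => ?_, fun hh => ?_⟩
        · by_cases hk : k = i
          · simp [hk]
          by_cases hk' : k = j <;> simp [hk, hk', hij.symm]
        · simpa using hh (x := i) (by simpa using hi))
        (Function.update a j (a i + 1)) (Function.update (Function.update d j 0) i 0) rfl (by
          funext k
          by_cases hk : k = i
          · simp [hk]
          by_cases hk' : k = j
          · simp [hk', hij.symm]
          · simpa [hk, hk'] using congrFun h1 k)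
      exact ⟨x, (isConj_merge h1 hij hi hj).trans h4, h5⟩
    · refine ⟨_, IsConj.refl _, Or.inr ⟨i, jj_mem_KB.mpr ⟨funext fun k => ?_, funext fun k => ?_⟩⟩⟩
      · by_cases hk : k = i
        · simp [hk, z2_add]
        · simpa [hk] using (z2_cases (d k)).resolve_right fun e => h3 ⟨k, Ne.symm hk, e⟩
      · by_cases hk : k = i
        · simpa [hk, ← add_assoc, z2_add, hi] using congrFun h1 i
        · simp [hk, z2_add]
  · refine ⟨_, IsConj.refl _, Or.inl (jj_mem_KB.mpr ⟨funext fun k => ?_, by simp [kr_add]⟩)⟩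
    simpa using (z2_cases (d k)).resolve_right fun e => h2 ⟨k, e⟩

/-- the central elements of `J` -/
abbrev zz (a : KR n) : KW n := jj a 0 0

theorem zz_add (a b : KR n) : zz (a + b) = zz a * zz b := by rw [jj_mul]; simp

theorem zz_mem (a β : KR n) : zz a ∈ KB β := jj_mem_KB.mpr (by simp)

theorem zz_comm (a : KR n) {x : KW n} (hx : x ∈ KJ n) : x * zz a = zz a * x := by
  obtain ⟨a', d, v, rfl⟩ := hx
  rw [jj_comm]; simp

theorem zz_one_comm (x : KW n) : x * zz 1 = zz 1 * x := by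
  ext p <;> simp [add_comm]

theorem comm_eq_zz {x y : KW n} (hx : x ∈ KJ n) (hy : y ∈ KJ n) :
    ∃ a, x * y * x⁻¹ * y⁻¹ = zz a := by
  obtain ⟨a, d, v, rfl⟩ := hx
  obtain ⟨a', d', v', rfl⟩ := hy
  refine ⟨v' * d + v * d', ?_⟩
  rw [jj_conj, mul_inv_eq_iff_eq_mul, jj_mul, jj_inj]
  exact ⟨by ring, by simp, by simp⟩

theorem bp_of_conj_zz {w : KW n} (h : ∀ i, ∃ a, w⁻¹ * zz (Pi.single i 1) * w = zz a) : BP w := by
  intro i
  obtain ⟨a, ha⟩ := h (w.σ (i, 0)).1
  have h1 := congrArg (fun x => x.c (i, 0)) ha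
  have h2 := congrArg (fun x => x.c (i, 1)) ha
  simp only [mul_c, inv_c, jj_c, jj_σ, sh_apply, Pi.zero_apply, add_zero, Prod.mk.eta,
    Perm.coe_inv, symm_apply_apply, mul_zero, Pi.single_eq_same] at h1 h2
  by_contra hne
  rw [Pi.single_eq_of_ne (Ne.symm hne), add_zero, z2_add, ← h1, add_right_comm, z2_add] at h2
  simp at h2

theorem conj_KB {w : KW n} (h : BP w) :
    ∃ π : Perm (Fin n), ∀ β, ∀ x ∈ KB β, w * x * w⁻¹ ∈ KB (β ∘ ⇑π⁻¹) := by
  obtain ⟨π, a, d, v, rfl⟩ := exists_eq_bp_mul h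
  refine ⟨π, fun β x hx => ?_⟩
  obtain ⟨a', d', v', e, h1, h2⟩ := KB_conj (jj_mem a d v) hx
  rw [mul_inv_rev, show ∀ x y z : KW n, x * y * z * (y⁻¹ * x⁻¹) = x * (y * z * y⁻¹) * x⁻¹ by
    intros; group, e, bp_conj]
  exact jj_mem_KB.mpr ⟨funext fun i => congrFun h1 _, funext fun i => congrFun h2 _⟩

theorem single_comp (π : Perm (Fin n)) (i : Fin n) :
    (Pi.single i 1 : KR n) ∘ ⇑π⁻¹ = Pi.single (π i) 1 := by
  funext j
  simp [Pi.single_apply, Equiv.symm_apply_eq]

/-- the character `ε` -/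
def epsH : KW n →* Multiplicative (ZMod 2) :=
  MonoidHom.mk' (fun w => Multiplicative.ofAdd (∑ p, w.c p)) fun x y => by
    rw [← ofAdd_add]
    simp only [mul_c, Finset.sum_add_distrib]
    rw [Equiv.sum_comp y.σ x.c]

theorem epsH_jj (a d v : KR n) : epsH (jj a d v) = Multiplicative.ofAdd (∑ i, d i) := by
  change Multiplicative.ofAdd _ = _
  congr 1
  rw [Fintype.sum_prod_type]
  refine Finset.sum_congr rfl fun i _ => ?_
  rw [show (Finset.univ : Finset (ZMod 2)) = {0, 1} from rfl, Finset.sum_pair (by decide)]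
  simp [← add_assoc, z2_add]

/-- the central involution is the only one -/
theorem eq_zz_one {w : KW n} (h : ∀ x, x * w = w * x) (h1 : w ≠ 1) : w = zz 1 := by
  have hσ : w.σ = sh 0 := by
    refine Equiv.ext fun p => ?_
    have := congrArg (fun x => x.c p) (h ⟨Pi.single p 1, 1⟩)
    simp only [mul_c, Perm.coe_one, id_eq, Pi.single_eq_same] at this
    rw [add_comm, add_right_inj] at this
    by_contra hne
    rw [Pi.single_eq_of_ne (by simpa using hne)] at this
    simp at this
  have hc : ∀ p q, w.c p = w.c q := fun p q => by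
    have := congrArg (fun x => x.c p) (h ⟨fun _ => 0, swap p q⟩)
    simpa using this
  refine KW.ext (funext fun p => ?_) hσ
  by_contra hp
  refine h1 (KW.ext (funext fun q => ?_) (hσ.trans (by ext <;> simp)))
  rw [hc q p]
  simpa using (z2_cases (w.c p)).resolve_right (by simpa using hp)

/-- the weight of a vector -/
def wt (a : KR n) : ℕ := (Finset.univ.filter fun i => a i = 1).card

theorem wt_comp (a : KR n) (π : Perm (Fin n)) : wt (a ∘ ⇑π) = wt a :=
  Finset.card_bijective π π.bijective (by simp)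

theorem exists_comp_of_wt {a b : KR n} (h : wt a = wt b) : ∃ π : Perm (Fin n), b = a ∘ ⇑π⁻¹ := by
  classical
  have e : {i // a i = 1} ≃ {i // b i = 1} :=
    Fintype.equivOfCardEq (by simpa [Fintype.card_subtype, wt] using h)
  refine ⟨e.extendSubtype, funext fun j => ?_⟩
  obtain ⟨i, rfl⟩ := e.extendSubtype.surjective j
  simp only [Function.comp_apply, Perm.coe_inv, symm_apply_apply]
  by_cases hi : a i = 1
  · rw [hi]; exact e.extendSubtype_mem i hi
  · rw [(z2_cases _).resolve_right hi]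
    exact (z2_cases _).resolve_right (e.extendSubtype_not_mem i hi)

theorem eq_one_of_wt {a : KR n} (h : wt (1 : KR n) = wt a) : a = 1 := by
  obtain ⟨π, rfl⟩ := exists_comp_of_wt h
  rfl

/-- the transposition in block `i` -/
abbrev ee (i : Fin n) : KW n := jj 0 (Pi.single i 1) 0

/-- the swap in block `i` -/
abbrev ss (i : Fin n) : KW n := jj 0 0 (Pi.single i 1)

theorem mul_single (v : KR n) (i : Fin n) :
    v i = 0 ∧ v * Pi.single i 1 = 0 ∨ v i = 1 ∧ v * Pi.single i 1 = Pi.single i 1 := by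
  rcases z2_cases (v i) with h | h
  · exact Or.inl ⟨h, funext fun j => by by_cases hj : j = i <;> simp [hj, h]⟩
  · exact Or.inr ⟨h, funext fun j => by by_cases hj : j = i <;> simp [hj, h]⟩

theorem jj_mul_zz (a d v b : KR n) : jj a d v * zz b = jj (a + b) d v := by rw [jj_mul]; simp

theorem ee_conj (i : Fin n) (a d v : KR n) :
    ee i * jj a d v * (ee i)⁻¹ = jj (a + v * Pi.single i 1) d v := by rw [jj_conj]; simp

theorem ss_conj (i : Fin n) (a d v : KR n) :
    ss i * jj a d v * (ss i)⁻¹ = jj (a + d * Pi.single i 1) d v := by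
  rw [jj_conj]; simp [mul_comm]

theorem ee_tv (i : Fin n) {x : KW n} (hx : x ∈ KJ n) :
    ee i * x * (ee i)⁻¹ = x ∨ ee i * x * (ee i)⁻¹ = x * zz (Pi.single i 1) := by
  obtain ⟨a, d, v, rfl⟩ := hx
  rw [ee_conj, jj_mul_zz]
  rcases mul_single v i with ⟨-, h⟩ | ⟨-, h⟩ <;> simp [h]

theorem ss_tv (i : Fin n) {x : KW n} (hx : x ∈ KJ n) :
    ss i * x * (ss i)⁻¹ = x ∨ ss i * x * (ss i)⁻¹ = x * zz (Pi.single i 1) := by
  obtain ⟨a, d, v, rfl⟩ := hx
  rw [ss_conj, jj_mul_zz]
  rcases mul_single d i with ⟨-, h⟩ | ⟨-, h⟩ <;> simp [h]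

theorem single_mul_single (i : Fin n) :
    (Pi.single i 1 : KR n) * Pi.single i 1 = Pi.single i 1 := by
  rw [← Pi.single_mul, mul_one]

theorem comm_ss_ee (i : Fin n) : ss i * ee i * (ss i)⁻¹ * (ee i)⁻¹ = zz (Pi.single i 1) := by
  rw [ss_conj, mul_inv_eq_iff_eq_mul, jj_mul, single_mul_single]; simp

theorem ss_mem (i : Fin n) : ss i ∈ KB 1 := jj_mem_KB.mpr ⟨by simp, by simp [kr_add]⟩

theorem ee_mem (i : Fin n) : ee i ∈ KB (1 + Pi.single i 1) :=
  jj_mem_KB.mpr ⟨by rw [add_mul, single_mul_single, one_mul, kr_add], by simp⟩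

theorem mem_KB_one {x : KW n} : x ∈ KB 1 ↔ ∃ a v, x = jj a 0 v := by
  refine ⟨?_, by rintro ⟨a, v, rfl⟩; exact jj_mem_KB.mpr ⟨by simp, by simp [kr_add]⟩⟩
  rintro ⟨a, d, v, rfl, h, -⟩
  rw [one_mul] at h
  exact ⟨a, v, by rw [h]⟩

theorem mem_KB_single {i : Fin n} {x : KW n} : x ∈ KB (1 + Pi.single i 1) ↔
    ∃ a d v, x = jj a d v ∧ v i = 0 ∧ (d = 0 ∨ d = Pi.single i 1) := by
  constructor
  · rintro ⟨a, d, v, rfl, h1, h2⟩
    refine ⟨a, d, v, rfl, by simpa [← add_assoc, z2_add] using congrFun h2 i, ?_⟩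
    rw [add_mul, one_mul, mul_comm] at h1
    rcases mul_single d i with ⟨-, h⟩ | ⟨-, h⟩
    · left; simpa [h] using h1
    · right; rw [h] at h1; linear_combination h1 - kr_add (Pi.single i 1 : KR n)
  · rintro ⟨a, d, v, rfl, h1, h2⟩
    refine jj_mem_KB.mpr ⟨?_, ?_⟩
    · rcases h2 with rfl | rfl
      · simp
      · rw [add_mul, single_mul_single, one_mul, kr_add]
    · rw [← add_assoc, kr_add, zero_add, mul_comm]
      exact ((mul_single v i).resolve_right fun h => by simp [h1] at h).2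

theorem adj_one (i : Fin n) {x : KW n} (hx : x ∈ KB (1 + Pi.single i 1)) :
    x ∈ KB 1 ∨ x * ee i ∈ KB 1 := by
  obtain ⟨a, d, v, rfl, -, rfl | rfl⟩ := mem_KB_single.mp hx
  · exact Or.inl (mem_KB_one.mpr ⟨_, _, rfl⟩)
  · exact Or.inr (mem_KB_one.mpr ⟨_, _, by rw [jj_mul, kr_add]⟩)

theorem adj_single (i : Fin n) {x : KW n} (hx : x ∈ KB 1) :
    x ∈ KB (1 + Pi.single i 1) ∨ x * ss i ∈ KB (1 + Pi.single i 1) := by
  obtain ⟨a, v, rfl⟩ := mem_KB_one.mp hx
  rcases z2_cases (v i) with h | h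
  · exact Or.inl (mem_KB_single.mpr ⟨_, _, _, rfl, h, Or.inl rfl⟩)
  · exact Or.inr (mem_KB_single.mpr ⟨_, _, _, jj_mul .., by simp [h, z2_add], by simp⟩)

end Cfsg.Lib.Kondo
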