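import Cfsg.Agent.Lib.Kondo.W2
import Cfsg.Agent.Lib.InvChar.SylTools
import Cfsg.Agent.Lib.Transfer.Thompson

/-!
Fusion in a group with a `2`-central involution whose centraliser is `Z₂ ≀ S_{2n}` modulo core.
-/

set_option autoImplicit false

namespace Cfsg.Lib.Kondo

open Equiv KW Subgroup Cfsg.Lib.FT

variable {n : ℕ} {G : Type*} [Group G]

/-- `u` acts on `B` as a transvection with centre `c` -/
structure Tv (B : Subgroup G) (u c : G) : Prop where
  mem : c ∈ B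
  sq : u * u = 1
  fix : u * c * u⁻¹ = c
  act : ∀ b ∈ B, u * b * u⁻¹ = b ∨ u * b * u⁻¹ = b * c

theorem Tv.conj {B : Subgroup G} {u c g : G} (h : Tv B u c) (hg : g ∈ N[B]) :
    Tv B (g * u * g⁻¹) (g * c * g⁻¹) := by
  refine ⟨(mem_normalizer_iff.mp hg c).mp h.mem, by rw [conj_mul, h.sq]; simp, ?_, fun b hb => ?_⟩
  · conv_rhs => rw [← h.fix]
    group
  · have hb' : g⁻¹ * b * g ∈ B := by
      simpa using (mem_normalizer_iff.mp (inv_mem hg) b).mp hb
    rcases h.act _ hb' with e | e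
    · left
      calc _ = g * (u * (g⁻¹ * b * g) * u⁻¹) * g⁻¹ := by group
        _ = _ := by rw [e]; group
    · right
      calc _ = g * (u * (g⁻¹ * b * g) * u⁻¹) * g⁻¹ := by group
        _ = _ := by rw [e]; group

theorem Tv.mem_N [Finite G] {B : Subgroup G} {u c : G} (h : Tv B u c) : u ∈ N[B] :=
  mem_normalizer_fintype fun b hb => by
    rcases h.act b hb with e | e <;> rw [e]
    · exact hb
    · exact mul_mem hb h.mem

theorem Tv.pow_four {B : Subgroup G} (h2 : ∀ b ∈ B, b * b = 1) {u v c c' : G} (hu : Tv B u c)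
    (hv : Tv B v c') (h : v * c * v⁻¹ = c) : (u * v) ^ 4 ∈ C[B] := by
  set f := MulAut.conj (u * v) with hf
  have hf' : ∀ b, f b = u * (v * b * v⁻¹) * u⁻¹ := fun b => by simp [hf, mul_assoc]
  have f1 : f c = c := by rw [hf', h, hu.fix]
  have f2 : f c' = c' ∨ f c' = c' * c := by rw [hf', hv.fix]; exact hu.act _ hv.mem
  have f3 : ∀ b ∈ B, ∃ d ∈ B, f b = b * d ∧ (f d = d ∨ f d = d * c) := fun b hb => by
    rw [hf']
    rcases hv.act b hb with e | e <;> rw [e]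
    · rcases hu.act b hb with e | e
      · exact ⟨1, one_mem _, by simp [e], Or.inl (map_one _)⟩
      · exact ⟨c, hu.mem, e, Or.inl f1⟩
    · rcases hu.act _ (mul_mem hb hv.mem) with e | e
      · exact ⟨c', hv.mem, e, f2⟩
      · refine ⟨c' * c, mul_mem hv.mem hu.mem, by rw [e, mul_assoc], ?_⟩
        rw [map_mul, f1]
        exact f2.imp (fun e => by rw [e]) fun e => by rw [e]
  have f4 : ∀ b ∈ B, f (f b) = b ∨ f (f b) = b * c := fun b hb => by
    obtain ⟨d, hd, e1, e2⟩ := f3 b hb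
    rw [e1, map_mul, e1]
    rcases e2 with e | e <;> rw [e]
    · left; rw [mul_assoc, h2 d hd, mul_one]
    · right; rw [mul_assoc, ← mul_assoc d, h2 d hd, one_mul]
  intro b hb
  have : f (f (f (f b))) = b := by
    rcases f4 b hb with e | e
    · rw [e, e]
    · rw [e, map_mul, map_mul, e, f1, f1, mul_assoc, h2 c hu.mem, mul_one]
  rw [eq_comm, ← mul_inv_eq_iff_eq_mul]
  refine Eq.trans ?_ this
  simp only [hf, MulAut.conj_apply]
  generalize u * v = x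
  simp [pow_succ, mul_assoc]

/-- two transvections generating a `2`-group of automorphisms lie in a `2`-subgroup -/
theorem Tv.exists_isPGroup [Finite G] {B : Subgroup G} (h2 : ∀ b ∈ B, b * b = 1) {u v c c' : G}
    (hu : Tv B u c) (hv : Tv B v c') (h : v * c * v⁻¹ = c ∨ u * c' * u⁻¹ = c') :
    ∃ k ∈ C[B], ∃ T : Subgroup G, IsPGroup 2 T ∧ B ≤ T ∧ u ∈ T ∧ k * v * k⁻¹ ∈ T := by
  have iu : u⁻¹ = u := inv_eq_of_mul_eq_one_left hu.sq
  have iv : v⁻¹ = v := inv_eq_of_mul_eq_one_left hv.sq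
  have h4 : (u * v) ^ 4 ∈ C[B] := by
    rcases h with h | h
    · exact hu.pow_four h2 hv h
    · have := inv_mem (hv.pow_four h2 hu h)
      rwa [← inv_pow, mul_inv_rev, iu, iv] at this
  set x := u * v with hx
  obtain ⟨a, m, ⟨l, rfl⟩, hm⟩ := Nat.exists_eq_two_pow_mul_odd (orderOf_pos x).ne'
  obtain ⟨j, hj⟩ := Nat.even_mul_succ_self l
  have hux : ∀ k : ℕ, u * x ^ k * u⁻¹ = (x ^ k)⁻¹ := fun k => by
    rw [← conj_pow, ← inv_pow, hx, mul_inv_rev, iu, iv, ← mul_assoc, hu.sq, one_mul]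
  set y := x ^ ((2 * l + 1) * (2 * l + 1)) with hy
  have p1 : IsPGroup 2 B := fun b => ⟨1, Subtype.ext (by simpa [pow_two] using h2 b b.2)⟩
  have p2 : IsPGroup 2 (zpowers y) := by
    rintro ⟨_, i, rfl⟩
    refine ⟨a, Subtype.ext ?_⟩
    change (y ^ i) ^ 2 ^ a = 1
    rw [← zpow_natCast, zpow_comm, zpow_natCast, hy, ← pow_mul,
      show (2 * l + 1) * (2 * l + 1) * 2 ^ a = 2 ^ a * (2 * l + 1) * (2 * l + 1) by ring, ← hm,
      pow_mul, pow_orderOf_eq_one, one_pow, one_zpow]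
  have p3 : IsPGroup 2 (zpowers u) := by
    rintro ⟨_, i, rfl⟩
    refine ⟨1, Subtype.ext ?_⟩
    change (u ^ i) ^ 2 ^ 1 = 1
    rw [← zpow_natCast, zpow_comm, zpow_natCast, pow_one, pow_two, hu.sq, one_zpow]
  have p4 : IsPGroup 2 (zpowers y ⊔ zpowers u : Subgroup G) :=
    p2.to_sup_of_normal_left' p3 (zpowers_le.mpr (mem_normalizer_fintype (by
      rintro _ ⟨i, rfl⟩
      exact ⟨-i, by simp only; rw [← conj_zpow, hy, hux, inv_zpow']⟩)))
  refine ⟨((x ^ 4) ^ j)⁻¹, inv_mem (pow_mem h4 j), B ⊔ (zpowers y ⊔ zpowers u),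
    p1.to_sup_of_normal_left' p4 (sup_le (zpowers_le.mpr (pow_mem (mul_mem hu.mem_N hv.mem_N) _))
      (zpowers_le.mpr hu.mem_N)), le_sup_left, mem_sup_right (mem_sup_right (mem_zpowers u)), ?_⟩
  have : ((x ^ 4) ^ j)⁻¹ * v * ((x ^ 4) ^ j)⁻¹⁻¹ = u * y := by
    rw [← pow_mul, inv_inv, ← hux, hy,
      show (2 * l + 1) * (2 * l + 1) = 4 * j + 1 + 4 * j by nlinarith, pow_add, pow_succ, iu]
    generalize x ^ (4 * j) = s
    rw [hx]; group
  rw [this]
  exact mem_sup_right (mul_mem (mem_sup_right (mem_zpowers u)) (mem_sup_left (mem_zpowers y)))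

/-- the hypothesis -/
structure KH (Λ : KW n →* G) (S : Subgroup (KW n)) : Prop where
  inj : Function.Injective Λ
  act : ∀ h, h * Λ (zz 1) * h⁻¹ = Λ (zz 1) → ∃ w, ∀ x y, h * Λ x * h⁻¹ = Λ y → w * x * w⁻¹ = y
  le : KJ n ≤ S
  syl : IsSylowIn 2 (S.map Λ) ⊤
  no2 : ∀ N : Subgroup G, N.index ≠ 2

namespace KH

variable [Finite G] {Λ : KW n →* G} {S : Subgroup (KW n)} (H : KH Λ S)
include H

omit [Finite G] in
theorem isPGroup : IsPGroup 2 S :=
  H.syl.isPGroup.of_equiv (S.equivMapOfInjective Λ H.inj).symm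

omit [Finite G] H in
theorem sq_KB {β : KR n} : ∀ b ∈ (KB β).map Λ, b * b = 1 := by
  rintro _ ⟨x, hx, rfl⟩
  rw [← map_mul, KB_sq hx, map_one]

omit [Finite G] in
theorem wk {β : KR n} {g : G} (h : g •ᶜ (KB β).map Λ ≤ S.map Λ) :
    ∃ β', g •ᶜ (KB β).map Λ = (KB β').map Λ := by
  have e : ((g •ᶜ (KB β).map Λ).comap Λ).map Λ = g •ᶜ (KB β).map Λ :=
    map_comap_eq_self (h.trans (map_le_range _ _))
  obtain ⟨β', hβ⟩ := eq_KB (B := (g •ᶜ (KB β).map Λ).comap Λ) (fun x hx => by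
      obtain ⟨y, hy, e⟩ := h hx
      exact bp_of_isPGroup H.isPGroup H.le (H.inj e ▸ hy))
    (fun x hx => by
      obtain ⟨y, hy, e⟩ := hx
      apply H.inj
      rw [map_mul, ← e, ← map_mul, sq_KB y hy, map_one, map_one])
    (by rw [← card_map_of_injective H.inj, e, card_conj, card_map_of_injective H.inj, card_KB])
  exact ⟨β', by rw [← hβ, e]⟩

omit [Finite G] in
theorem wk_mem {β : KR n} {g : G} (h : g •ᶜ (KB β).map Λ ≤ S.map Λ) {x : KW n} (hx : x ∈ KB β) :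
    g * Λ x * g⁻¹ ∈ (KJ n).map Λ := by
  obtain ⟨β', e⟩ := H.wk h
  exact map_mono (KB_le β') (e ▸ conj_mem_conj (mem_map_of_mem Λ hx) g)

theorem wkJ (g : G) (h : g •ᶜ (KJ n).map Λ ≤ S.map Λ) : g ∈ N[(KJ n).map Λ] := by
  refine mem_normalizer_fintype ?_
  rintro _ ⟨_, ⟨a, d, v, rfl⟩, rfl⟩
  have e : jj a d v = jj (a + v * d) d 0 * jj 0 0 v := by
    rw [jj_mul, add_zero, add_assoc, kr_add]; simp
  rw [e, map_mul, ← conj_mul]
  exact mul_mem (H.wk_mem (β := 0) ((map_mono (map_mono (KB_le _))).trans h)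
      (jj_mem_KB.mpr (by simp)))
    (H.wk_mem (β := 1) ((map_mono (map_mono (KB_le _))).trans h) (mem_KB_one.mpr ⟨_, _, rfl⟩))

omit [Finite G] in
theorem single_conj {g : G} (hg : g ∈ N[(KJ n).map Λ]) (i : Fin n) :
    ∃ j, g * Λ (zz (Pi.single i 1)) * g⁻¹ = Λ (zz (Pi.single j 1)) := by
  obtain ⟨_, ⟨a, d, v, rfl⟩, e1⟩ :=
    conj_mem_of_mem_normalizer hg (mem_map_of_mem Λ (KB_le _ (ss_mem i)))
  obtain ⟨y, hy, e2⟩ := conj_mem_of_mem_normalizer hg (mem_map_of_mem Λ (KB_le _ (ee_mem i)))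
  have key : ∀ y ∈ KJ n, jj a d v * y * (jj a d v)⁻¹ = y ∨
      Λ (jj a d v * y * (jj a d v)⁻¹) = Λ y * (g * Λ (zz (Pi.single i 1)) * g⁻¹) := by
    intro y hy
    obtain ⟨y', hy', e⟩ := conj_mem_of_mem_normalizer' hg (mem_map_of_mem Λ hy)
    have e' : Λ y = g * Λ y' * g⁻¹ := by rw [e]; group
    have : Λ (jj a d v * y * (jj a d v)⁻¹) = g * Λ (ss i * y' * (ss i)⁻¹) * g⁻¹ := by
      simp only [map_mul, map_inv, e1, e']; group
    refine (ss_tv i hy').imp (fun h => H.inj ?_) fun h => ?_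
    · rw [this, h, e']
    · rw [this, h, map_mul, e', conj_mul]
  have hne : d ≠ 0 ∨ v ≠ 0 := by
    by_contra hh
    push Not at hh
    obtain ⟨rfl, rfl⟩ := hh
    have h1 := congrArg Λ (zz_comm a hy)
    rw [map_mul, map_mul, e1, e2, conj_mul, conj_mul, mul_left_inj, mul_right_inj, ← map_mul,
      ← map_mul] at h1
    have := congrFun (jj_comm.mp (H.inj h1)) i
    simp at this
  rcases hne with h | h
  · obtain ⟨j, hj⟩ := Function.ne_iff.mp h
    have hj : d j = 1 := (z2_cases _).resolve_left hj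
    have e : jj a d v * ss j * (jj a d v)⁻¹ = ss j * zz (Pi.single j 1) := by
      rw [jj_conj, jj_mul_zz, mul_comm, ((mul_single d j).resolve_left (by simp [hj])).2]; simp
    refine ⟨j, ?_⟩
    rcases key _ (jj_mem 0 0 (Pi.single j 1)) with h1 | h1 <;> rw [e] at h1
    · rw [jj_mul_zz] at h1
      simpa using congrFun (jj_inj.mp h1).1 j
    · rw [map_mul, mul_right_inj] at h1
      exact h1.symm
  · obtain ⟨j, hj⟩ := Function.ne_iff.mp h
    have hj : v j = 1 := (z2_cases _).resolve_left hj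
    have e : jj a d v * ee j * (jj a d v)⁻¹ = ee j * zz (Pi.single j 1) := by
      rw [jj_conj, jj_mul_zz, ((mul_single v j).resolve_left (by simp [hj])).2]; simp
    refine ⟨j, ?_⟩
    rcases key _ (jj_mem 0 (Pi.single j 1) 0) with h1 | h1 <;> rw [e] at h1
    · rw [jj_mul_zz] at h1
      simpa using congrFun (jj_inj.mp h1).1 j
    · rw [map_mul, mul_right_inj] at h1
      exact h1.symm

omit [Finite G] in
theorem zz_conj {g : G} (hg : g ∈ N[(KJ n).map Λ]) :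
    ∃ π : Perm (Fin n), ∀ a, g * Λ (zz a) * g⁻¹ = Λ (zz (a ∘ ⇑π⁻¹)) := by
  choose π hπ using H.single_conj hg
  have hi : Function.Injective π := fun i j e => by
    have h1 := hπ i
    rw [e, ← hπ j, mul_left_inj, mul_right_inj] at h1
    have := congrFun (jj_inj.mp (H.inj h1)).1 i
    by_contra hij
    simp [hij] at this
  refine ⟨Equiv.ofBijective π (Finite.injective_iff_bijective.mp hi), fun a => ?_⟩
  induction a using Pi.single_induction with
  | zero => simp [jj_zero]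
  | add a b ha hb => rw [zz_add, map_mul, ← conj_mul, ha, hb, ← map_mul, ← zz_add]; rfl
  | single i m =>
    rcases z2_cases m with rfl | rfl
    · simp [jj_zero]
    · rw [single_comp]; exact hπ i

omit [Finite G] H in
theorem isPGroup_J : IsPGroup 2 ((KJ n).map Λ) := isPGroup_KJ.map Λ

theorem wt_eq {a b : KR n} (h : IsConj (Λ (zz a)) (Λ (zz b))) : wt a = wt b := by
  obtain ⟨g, hg⟩ := isConj_iff.mp h
  have h1 : ∀ a, (KJ n).map Λ ≤ C1[Λ (zz a)] := by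
    rintro a _ ⟨x, hx, rfl⟩
    rw [mem_C1, ← map_mul, zz_comm a hx, map_mul]
  obtain ⟨c, hc, h2⟩ := IC.wc_conj H.syl isPGroup_J H.wkJ (h1 b) (g := g)
    (by rw [← hg, ← conj_centralizer_singleton]; exact map_mono (h1 a))
  obtain ⟨π, hπ⟩ := H.zz_conj h2
  have h3 := hπ a
  rw [mul_inv_rev, show c * g * Λ (zz a) * (g⁻¹ * c⁻¹) = c * (g * Λ (zz a) * g⁻¹) * c⁻¹ by group,
    hg, mem_C1.mp hc, mul_inv_cancel_right] at h3
  rw [(jj_inj.mp (H.inj h3)).1, wt_comp]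

theorem type_eq {β : KR n} {g : G} (h : g •ᶜ (KB β).map Λ ≤ S.map Λ) :
    ∃ π : Perm (Fin n), g •ᶜ (KB β).map Λ = (KB (β ∘ ⇑π⁻¹)).map Λ := by
  obtain ⟨β', e⟩ := H.wk h
  have h1 : ∀ β : KR n, (KJ n).map Λ ≤ N[(KB β).map Λ] := by
    rintro β _ ⟨x, hx, rfl⟩
    refine mem_normalizer_fintype ?_
    rintro _ ⟨y, hy, rfl⟩
    exact ⟨_, KB_conj hx hy, by simp⟩
  obtain ⟨c, hc, h2⟩ := IC.wc_conj H.syl isPGroup_J H.wkJ (h1 β') (g := g)
    (by rw [← e, normalizer_map_conj]; exact map_mono (h1 β))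
  obtain ⟨π, hπ⟩ := H.zz_conj h2
  obtain ⟨w, hw⟩ := H.act _ (hπ 1)
  obtain ⟨π', hπ'⟩ := conj_KB (w := w) (bp_of_conj_zz fun i => ⟨Pi.single i 1 ∘ π, by
    have := hw _ _ (hπ (Pi.single i 1 ∘ π))
    rw [show (Pi.single i 1 ∘ π) ∘ ⇑π⁻¹ = (Pi.single i 1 : KR n) by funext j; simp] at this
    rw [← this]; group⟩)
  have e2 : (c * g) •ᶜ (KB β).map Λ = (KB β').map Λ := by
    rw [← conj_conj, e, conj_eq_iff_mem_normalizer.mpr hc]
  refine ⟨π', e.trans (congrArg (fun β => (KB β).map Λ) (KB_inj fun y hy => ?_))⟩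
  obtain ⟨_, ⟨x, hx, rfl⟩, e3⟩ := e2.ge (mem_map_of_mem Λ hy)
  exact hw x y e3 ▸ hπ' β x hx

theorem mem_N_one {g : G} (h : g •ᶜ (KB 1).map Λ ≤ S.map Λ) : g ∈ N[(KB 1).map Λ] := by
  obtain ⟨π, e⟩ := H.type_eq h
  exact conj_eq_iff_mem_normalizer.mp e

/-- Thompson transfer -/
theorem thompson {A : Type*} [Group A] (hA : ∀ a b : A, a ≠ 1 → b ≠ 1 → a * b = 1)
    (χ : KW n →* A) {β : KR n} {x : KW n} (hx : x ∈ KB β) (h1 : χ x ≠ 1) :
    ∃ g y, g * Λ x * g⁻¹ = Λ y ∧ χ y = 1 ∧ g •ᶜ (KB β).map Λ ≤ S.map Λ := by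
  obtain ⟨P, hP⟩ := H.syl.exists_sylow_top
  have hxS := H.le (KB_le β hx)
  obtain ⟨g, ⟨y, hy, e⟩, h3⟩ := thompson_transfer_extremal P (M := (S ⊓ χ.ker).map Λ)
    (hP ▸ map_mono inf_le_left) (by
      rw [hP, relIndex_map_map_of_injective _ _ H.inj, relIndex_eq_two_iff_exists_notMem_and]
      refine ⟨x, hxS, fun h => h1 h.2, fun b hb => ?_⟩
      by_cases h : χ b = 1
      · exact Or.inr ⟨hb, h⟩
      · exact Or.inl ⟨mul_mem hb hxS, (map_mul χ b x).trans (hA _ _ h h1)⟩)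
    (t := Λ x) (by rw [pow_two, ← map_mul, KB_sq hx, map_one])
    (by rw [pResidual_two_eq_top_iff.mpr H.no2]; exact mem_top _)
  obtain ⟨k, e1, h4⟩ := IC.exists_conj_into h3 (isConj_iff.mpr ⟨g, rfl⟩)
    ((isPGroup_J (Λ := Λ)).to_le (map_mono (KB_le β))) (by
      rintro _ ⟨z, hz, rfl⟩
      rw [mem_C1, ← map_mul, KB_comm hz hx, map_mul])
  refine ⟨k, y, e1.trans e.symm, hy.2, ?_⟩
  rintro _ ⟨z, hz, rfl⟩
  exact hP ▸ h4 z hz

end KH

end Cfsg.Lib.Kondo
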