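import Cfsg.Agent.Lib.Kondo.Trans

/-!
The centraliser of an involution in an alternating group; Kondo's count of involution classes.
-/

set_option autoImplicit false

namespace Cfsg.Lib.Kondo

open Equiv KW Subgroup Cfsg.Lib.FT

variable {n : ℕ}

/-- the action on `4 n` points -/
def tp : KW n →* Perm (KP n × ZMod 2) :=
  MonoidHom.mk' (fun w =>
    { toFun := fun x => (w.σ x.1, x.2 + w.c x.1)
      invFun := fun x => (w.σ⁻¹ x.1, x.2 + w.c (w.σ⁻¹ x.1))
      left_inv := fun x => by simp [add_assoc, z2_add]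
      right_inv := fun x => by simp [add_assoc, z2_add] }) fun x y => by
    ext p : 1
    simp [add_assoc, add_comm (y.c _)]

theorem tp_apply (w : KW n) (x : KP n × ZMod 2) : tp w x = (w.σ x.1, x.2 + w.c x.1) := rfl

theorem tp_injective : Function.Injective (tp (n := n)) := fun x y h => by
  have := fun p => Equiv.congr_fun h (p, 0)
  simp only [tp_apply, Prod.mk.injEq, zero_add] at this
  exact KW.ext (funext fun p => (this p).2) (Equiv.ext fun p => (this p).1)

theorem exists_tp {a : Perm (KP n × ZMod 2)} (h : a * tp (zz 1) = tp (zz 1) * a) :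
    ∃ w, tp w = a := by
  have h1 : ∀ p x, a (p, x) = ((a (p, 0)).1, x + (a (p, 0)).2) := fun p x => by
    rcases z2_cases x with rfl | rfl
    · simp
    · simpa [tp_apply, add_comm] using Equiv.congr_fun h (p, 0)
  have hi : Function.Injective fun p => (a (p, 0)).1 := fun p q e => by
    have : a (p, (a (q, 0)).2 + (a (p, 0)).2) = a (q, 0) := by
      rw [h1, add_assoc, z2_add, add_zero]; exact Prod.ext e rfl
    exact congrArg Prod.fst (a.injective this)
  exact ⟨⟨fun p => (a (p, 0)).2, Equiv.ofBijective _ (Finite.injective_iff_bijective.mp hi)⟩,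
    Equiv.ext fun x => (h1 x.1 x.2).symm⟩

theorem exists_model {r : ℕ} {α : Perm (Fin (4 * n + r))} (h2 : α * α = 1)
    (h4 : α.support.card = 4 * n) :
    ∃ Φ : KW n × Perm (Fin r) →* Perm (Fin (4 * n + r)), Function.Injective Φ ∧ Φ (zz 1, 1) = α ∧
      (∀ h, h * α = α * h → h ∈ Φ.range) ∧
      ∀ w b, Perm.sign (Φ (w, b)) = Perm.sign (tp w) * Perm.sign b := by
  let α₀ : Perm ((KP n × ZMod 2) ⊕ Fin r) := Perm.sumCongr (tp (zz 1)) 1
  have hl : ∀ x, α₀ (Sum.inl x) ≠ Sum.inl x := fun x => by simp [α₀, tp_apply, Prod.ext_iff]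
  have hr : ∀ x, α₀ (Sum.inr x) = Sum.inr x := fun x => by simp [α₀]
  have e₀ : ((KP n × ZMod 2) ⊕ Fin r) ≃ Fin (4 * n + r) :=
    Fintype.equivOfCardEq (by simp; ring)
  obtain ⟨g, hg⟩ := isConj_iff.mp (isConj_of_sq (σ := e₀.permCongrHom α₀) (by
    rw [← map_mul, Perm.sumCongr_mul, ← map_mul, KB_sq (zz_mem _ 1), map_one, mul_one,
      Perm.sumCongr_one, map_one]) h2 (by
    rw [h4, ← Finset.card_bijective (s := α₀.support) e₀ e₀.bijective (by simp),
      show α₀.support = Finset.univ.map ⟨_, Sum.inl_injective⟩ by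
        ext (x | x) <;> simp [hl, hr]]
    simp; ring))
  let e := e₀.trans g
  have he : e.permCongrHom α₀ = α := by rw [← hg]; ext; simp [e]
  refine ⟨(e.permCongrHom : _ →* _).comp ((Perm.sumCongrHom _ _).comp (tp.prodMap (MonoidHom.id _))),
    e.permCongrHom.injective.comp (Perm.sumCongrHom_injective.comp
      (tp_injective.prodMap Function.injective_id)), he, fun h hh => ?_, fun w b => ?_⟩
  · obtain ⟨h, rfl⟩ := e.permCongrHom.surjective h
    rw [← he, ← map_mul, ← map_mul, e.permCongrHom.injective.eq_iff] at hh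
    obtain ⟨⟨a, b⟩, rfl⟩ := Perm.mem_sumCongrHom_range_of_perm_mapsTo_inl (σ := h) (by
      rintro _ ⟨x, rfl⟩
      rcases hx : h (Sum.inl x) with y | y
      · exact ⟨y, rfl⟩
      · have := Equiv.congr_fun hh (Sum.inl x)
        rw [Perm.mul_apply, Perm.mul_apply, hx, hr, ← hx] at this
        exact absurd (h.injective this) (hl x))
    obtain ⟨w, rfl⟩ := exists_tp (a := a) (by
      simp only [α₀, Perm.sumCongrHom_apply, Perm.sumCongr_mul] at hh
      exact congrArg Prod.fst (Perm.sumCongrHom_injective (a₁ := (_, _)) (a₂ := (_, _)) hh))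
    exact ⟨(w, b), rfl⟩
  · exact (Perm.sign_permCongr e _).trans (Perm.sign_sumCongr _ _)

theorem exists_kh {G : Type*} [Group G] [Finite G] (h2 : ∀ N : Subgroup G, N.index ≠ 2) {t : G}
    (ht : orderOf t = 2) (P : Sylow 2 G) (hP : (P : Subgroup G) ≤ C1[t]) (L : KW n →* C1[t])
    (res : C1[t] →* KW n) (h1 : ∀ w, res (L w) = w) (hk : ∀ k, res k = 1 → k * k = 1 → k = 1) :
    ∃ S, KH ((C1[t]).subtype.comp L) S := by
  let t' : C1[t] := ⟨t, mem_C1.mpr rfl⟩
  have hc : ∀ x, x * t' = t' * x := fun x => Subtype.ext (mem_C1.mp x.2)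
  have ht2 : t' * t' = 1 := Subtype.ext (by
    change t * t = 1
    rw [← pow_two, ← ht, pow_orderOf_eq_one])
  have h3 : t' = L (res t') := by
    refine mul_inv_eq_one.mp (hk _ (by simp [h1]) ?_)
    rw [← hc, mul_assoc, ← mul_assoc t', ← hc, mul_assoc, ht2, mul_one, ← mul_inv_rev, ← map_mul,
      ← map_mul, ht2, map_one, map_one, inv_one]
  have h4 : L (zz 1) = t' := by
    rw [h3, eq_zz_one (w := res t') (fun x => by rw [← h1 x, ← map_mul, hc, map_mul]) fun h => ?_]
    rw [h, map_one] at h3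
    have : t = 1 := congrArg Subtype.val h3
    simp [this] at ht
  obtain ⟨S, hS, hJ⟩ := exists_isSylowIn_ge (isPGroup_KJ (n := n)) le_top
  have h5 : IsSylowIn 2 (S.map ((C1[t]).subtype.comp L)) C1[t] := by
    refine ⟨by rintro _ ⟨x, -, rfl⟩; exact (L x).2, hS.isPGroup.map _, fun R hR hRC hSR => ?_⟩
    have h6 := hS.maximal ((R.subgroupOf C1[t]).map res) (hR.comap_subtype.map _) le_top
      fun x hx => ⟨L x, hSR ⟨x, hx, rfl⟩, h1 x⟩
    refine le_antisymm (fun x hx => ?_) hSR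
    have h7 : res ⟨x, hRC hx⟩ ∈ S := h6.le ⟨_, hx, rfl⟩
    have h8 : ∀ (m : ℕ) (k : C1[t]), res k = 1 → k ^ 2 ^ m = 1 → k = 1 := fun m => by
      induction m with
      | zero => simp
      | succ m ih =>
        intro k e1 e2
        exact hk k e1 (ih _ (by rw [map_mul, e1, mul_one]) (by rwa [← pow_two, ← pow_mul, ← pow_succ']))
    obtain ⟨m, hm⟩ := hR ⟨x * (L (res ⟨x, hRC hx⟩) : G)⁻¹, mul_mem hx (inv_mem (hSR ⟨_, h7, rfl⟩))⟩
    have := h8 m (⟨x, hRC hx⟩ * (L (res ⟨x, hRC hx⟩))⁻¹) (by simp [h1])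
      (Subtype.ext (congrArg (fun y : R => (y : G)) hm))
    exact ⟨_, h7, (congrArg Subtype.val (mul_inv_eq_one.mp this)).symm⟩
  refine ⟨S, fun x y h => ?_, fun h hh => ?_, hJ, (IsSylowIn.of_sylow_top P).of_card_ge h5.isPGroup
    le_top ((IsSylowIn.of_sylow_le P hP).card_eq_card h5).le, h2⟩
  · rw [← h1 x, ← h1 y, show L x = L y from Subtype.ext h]
  · rw [MonoidHom.comp_apply, h4, mul_inv_eq_iff_eq_mul] at hh
    refine ⟨res ⟨h, mem_C1.mpr hh⟩, fun x y e => ?_⟩
    rw [← h1 x, ← h1 y, ← map_inv, ← map_mul, ← map_mul]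
    exact congrArg res (Subtype.ext e)

theorem card_classes {r : ℕ} (hn : 1 ≤ n) (hr : r = 2 ∨ r = 3)
    (α : alternatingGroup (Fin (4 * n + r))) (hα : orderOf α = 2)
    (hα4 : (α : Perm (Fin (4 * n + r))).support.card = 4 * n)
    {G : Type*} [Group G] [Finite G] (h2 : ∀ N : Subgroup G, N.index ≠ 2) {t : G}
    (ht : orderOf t = 2) (P : Sylow 2 G) (hP : (P : Subgroup G) ≤ C1[t]) (φ : C1[t] ≃* C1[α]) :
    Nat.card {c : ConjClasses G // ∃ x ∈ c.carrier, orderOf x = 2} = n := by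
  obtain ⟨Φ, hΦ, h1, h3, h4⟩ := exists_model (α := (α : Perm (Fin (4 * n + r))))
    (by rw [← coe_mul, ← pow_two, ← hα, pow_orderOf_eq_one, coe_one]) hα4
  obtain ⟨ψ, hψ, hb⟩ : ∃ ψ : ℤˣ →* Perm (Fin r), (∀ u, Perm.sign (ψ u) = u) ∧
      ∀ b : Perm (Fin r), Perm.sign b = 1 → b * b = 1 → b = 1 := by
    rcases hr with rfl | rfl
    · exact ⟨MonoidHom.mk' (fun u => if u = 1 then 1 else swap 0 1) (by decide), by decide,
        by decide⟩
    · exact ⟨MonoidHom.mk' (fun u => if u = 1 then 1 else swap 0 1) (by decide), by decide,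
        by decide⟩
  let ι : C1[t] →* Perm (Fin (4 * n + r)) :=
    (alternatingGroup _).subtype.comp ((C1[α]).subtype.comp (φ : _ →* _))
  have hι : Function.Injective ι := Subtype.val_injective.comp (Subtype.val_injective.comp φ.injective)
  let ρ : C1[t] →* KW n × Perm (Fin r) := ((MonoidHom.ofInjective hΦ).symm : _ →* _).comp
    (ι.codRestrict Φ.range fun k => h3 _ (congrArg Subtype.val (mem_C1.mp (φ k).2)))
  have hρ : ∀ k, Φ (ρ k) = ι k := fun k => MonoidHom.apply_ofInjective_symm hΦ _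
  let L₁ : KW n →* alternatingGroup (Fin (4 * n + r)) :=
    (Φ.comp ((MonoidHom.id _).prod (ψ.comp (Perm.sign.comp tp)))).codRestrict _ fun w => by
      simp [h4, hψ]
  let L₂ : KW n →* C1[α] := L₁.codRestrict _ fun w => mem_C1.mpr (Subtype.ext (by
    change Φ _ * α = α * Φ _
    rw [← h1, ← map_mul, ← map_mul]
    simp [zz_one_comm]))
  obtain ⟨S, hS⟩ := exists_kh h2 ht P hP ((φ.symm : _ →* _).comp L₂) ((MonoidHom.fst _ _).comp ρ)
    (fun w => congrArg Prod.fst (hΦ (a₂ := (w, ψ (Perm.sign (tp w)))) (by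
      rw [hρ]; simp [ι, L₂, L₁]))) fun k e1 e2 => by
      have e3 : ρ k = (1, (ρ k).2) := Prod.ext e1 rfl
      have e4 : Perm.sign (ι k) = 1 := (φ k).1.2
      rw [← hρ, e3, h4, map_one, map_one, one_mul] at e4
      rw [hb _ e4 (by rw [← Prod.snd_mul, ← map_mul, e2, map_one, Prod.snd_one])] at e3
      exact hι (by rw [← hρ, e3, map_one]; exact map_one Φ)
  exact hS.card_classes hn

end Cfsg.Lib.Kondo
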