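import Cfsg.Agent.Lib.Kondo.Fus

/-!
The transvections induced on the elementary abelian subgroups of maximal rank.
-/

set_option autoImplicit false

namespace Cfsg.Lib.Kondo

open Equiv KW Subgroup Cfsg.Lib.FT

variable {n : ℕ} {G : Type*} [Group G] {Λ : KW n →* G} {S : Subgroup (KW n)}

theorem tv_of {β : KR n} {u : KW n} {i : Fin n} (hu : u ∈ KJ n) (h2 : u * u = 1)
    (h : ∀ x ∈ KJ n, u * x * u⁻¹ = x ∨ u * x * u⁻¹ = x * zz (Pi.single i 1)) :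
    Tv ((KB β).map Λ) (Λ u) (Λ (zz (Pi.single i 1))) := by
  refine ⟨mem_map_of_mem Λ (zz_mem _ _), by rw [← map_mul, h2, map_one], ?_, ?_⟩
  · rw [← map_mul, zz_comm _ hu, map_mul, mul_inv_cancel_right]
  · rintro _ ⟨x, hx, rfl⟩
    simp only [← map_inv, ← map_mul]
    exact (h x (KB_le β hx)).imp (congrArg Λ) (congrArg Λ)

theorem tv_ee (β : KR n) (i : Fin n) : Tv ((KB β).map Λ) (Λ (ee i)) (Λ (zz (Pi.single i 1))) :=
  tv_of (jj_mem ..) (KB_sq (ee_mem i)) fun _ => ee_tv i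

theorem tv_ss (β : KR n) (i : Fin n) : Tv ((KB β).map Λ) (Λ (ss i)) (Λ (zz (Pi.single i 1))) :=
  tv_of (jj_mem ..) (KB_sq (ss_mem i)) fun _ => ss_tv i

theorem class_two {h x y z : G} (hx : h * x * h⁻¹ ∈ (KJ n).map Λ) (hy : h * y * h⁻¹ ∈ (KJ n).map Λ)
    (hz : h * z * h⁻¹ ∈ (KJ n).map Λ) : z * (x * y * x⁻¹ * y⁻¹) * z⁻¹ = x * y * x⁻¹ * y⁻¹ := by
  obtain ⟨x', hx, ex⟩ := hx
  obtain ⟨y', hy, ey⟩ := hy
  obtain ⟨z', hz, ez⟩ := hz
  obtain ⟨a, ha⟩ := comm_eq_zz hx hy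
  have := congrArg Λ (zz_comm a hz)
  rw [← ha] at this
  simp only [map_mul, map_inv, ex, ey, ez] at this
  rw [mul_inv_eq_iff_eq_mul]
  calc _ = h⁻¹ * (h * z * h⁻¹ * (h * x * h⁻¹ * (h * y * h⁻¹) * (h * x * h⁻¹)⁻¹ *
        (h * y * h⁻¹)⁻¹)) * h := by group
    _ = _ := by rw [this]; group

namespace KH

variable [Finite G] (H : KH Λ S)
include H

theorem exists_conj_le {β β₁ β₂ : KR n} {u₁ u₂ : KW n} {c₁ c₂ g : G}
    (h1 : Tv ((KB β).map Λ) (Λ u₁) c₁) (h2 : Tv ((KB β).map Λ) (Λ u₂) c₂)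
    (hg : g ∈ N[(KB β).map Λ]) (a1 : ∀ x ∈ KB β₁, x ∈ KB β ∨ x * u₁ ∈ KB β)
    (a2 : ∀ x ∈ KB β₂, x ∈ KB β ∨ x * u₂ ∈ KB β)
    (h : g * Λ u₂ * g⁻¹ * c₁ * (g * Λ u₂ * g⁻¹)⁻¹ = c₁ ∨
      Λ u₁ * (g * c₂ * g⁻¹) * (Λ u₁)⁻¹ = g * c₂ * g⁻¹) :
    ∃ k ∈ C[(KB β).map Λ], ∃ h, h •ᶜ (KB β).map Λ ≤ S.map Λ ∧ h •ᶜ (KB β₁).map Λ ≤ S.map Λ ∧
      (h * (k * g)) •ᶜ (KB β₂).map Λ ≤ S.map Λ := by
  obtain ⟨k, hk, T, hT, hB, hu, hv⟩ := h1.exists_isPGroup sq_KB (h2.conj hg) h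
  obtain ⟨h, -, hh⟩ := H.syl.exists_conj_le hT le_top
  refine ⟨k, hk, h, (map_mono hB).trans hh, (map_mono ?_).trans hh, ?_⟩
  · rintro _ ⟨x, hx, rfl⟩
    rcases a1 x hx with e | e
    · exact hB (mem_map_of_mem Λ e)
    · simpa using mul_mem (hB (mem_map_of_mem Λ e)) (inv_mem hu)
  · rw [← conj_conj]
    refine (map_mono ?_).trans hh
    rintro _ ⟨_, ⟨x, hx, rfl⟩, rfl⟩
    have hkg := mul_mem (centralizer_le_normalizer _ hk) hg
    rcases a2 x hx with e | e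
    · exact hB (conj_mem_of_mem_normalizer hkg (mem_map_of_mem Λ e))
    · simpa [mul_assoc] using
        mul_mem (hB (conj_mem_of_mem_normalizer hkg (mem_map_of_mem Λ e))) (inv_mem hv)

theorem twoA {g : G} (hg : g ∈ N[(KB 1).map Λ]) (i k : Fin n) :
    g * Λ (ee i) * g⁻¹ * Λ (zz (Pi.single k 1)) * (g * Λ (ee i) * g⁻¹)⁻¹ = Λ (zz (Pi.single k 1)) ↔
      Λ (ee k) * (g * Λ (zz (Pi.single i 1)) * g⁻¹) * (Λ (ee k))⁻¹ =
        g * Λ (zz (Pi.single i 1)) * g⁻¹ := by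
  refine (fun (h : _ ∨ _ → _ ∧ _) => ⟨fun h1 => (h (Or.inl h1)).2, fun h1 => (h (Or.inr h1)).1⟩)
    fun h => ?_
  obtain ⟨c, hc, h, h1, h2, h3⟩ := H.exists_conj_le (tv_ee 1 k) (tv_ee 1 i) hg
    (fun _ => adj_one k) (fun _ => adj_one i) h
  have hkg := mul_mem (centralizer_le_normalizer _ hc) hg
  have e1 := H.wk_mem h3 (ee_mem i)
  rw [show h * (c * g) * Λ (ee i) * (h * (c * g))⁻¹ = h * (c * g * Λ (ee i) * (c * g)⁻¹) * h⁻¹ by
    group] at e1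
  constructor
  · have := class_two (H.wk_mem h1 (ss_mem k)) (H.wk_mem h2 (ee_mem k)) e1
    simp only [← map_inv Λ, ← map_mul Λ, comm_ss_ee] at this
    have e := hc _ (mem_map_of_mem Λ (zz_mem (Pi.single k 1) 1))
    calc _ = c⁻¹ * (c * g * Λ (ee i) * (c * g)⁻¹ * (c * Λ (zz (Pi.single k 1)) * c⁻¹) *
          (c * g * Λ (ee i) * (c * g)⁻¹)⁻¹) * c := by group
      _ = _ := by rw [← e, mul_inv_cancel_right, this, mul_assoc, e]; group
  · obtain ⟨y, hy, e2⟩ := conj_mem_of_mem_normalizer hkg (mem_map_of_mem Λ (ss_mem i))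
    have := class_two (H.wk_mem h1 hy) e1 (H.wk_mem h2 (ee_mem k))
    have e := hc _ (conj_mem_of_mem_normalizer hg (mem_map_of_mem Λ (zz_mem (Pi.single i 1) 1)))
    rwa [e2, show ∀ x y : G, c * g * x * (c * g)⁻¹ * (c * g * y * (c * g)⁻¹) *
      (c * g * x * (c * g)⁻¹)⁻¹ * (c * g * y * (c * g)⁻¹)⁻¹ =
        c * (g * (x * y * x⁻¹ * y⁻¹) * g⁻¹) * c⁻¹ by intros; group, ← map_inv Λ (ss i),
      ← map_inv Λ (ee i), ← map_mul, ← map_mul, ← map_mul, comm_ss_ee, ← e,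
      mul_inv_cancel_right] at this

theorem exists_ne (hn : 1 ≤ n) : ∃ g ∈ N[(KB 1).map Λ], ∃ i a v,
    g * Λ (zz (Pi.single i 1)) * g⁻¹ = Λ (jj a 0 v) ∧ v ≠ 0 := by
  by_contra hh
  push Not at hh
  have h1 : ∀ g ∈ N[(KB 1).map Λ], g * Λ (zz 1) * g⁻¹ = Λ (zz 1) := fun g hg => by
    have : ∀ b, ∃ a, g * Λ (zz b) * g⁻¹ = Λ (zz a) := fun b => by
      induction b using Pi.single_induction with
      | zero => exact ⟨0, by simp [jj_zero]⟩
      | add a b ha hb =>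
        obtain ⟨a', ha⟩ := ha
        obtain ⟨b', hb⟩ := hb
        exact ⟨a' + b', by rw [zz_add, map_mul, ← conj_mul, ha, hb, ← map_mul, ← zz_add]⟩
      | single i m =>
        rcases z2_cases m with rfl | rfl
        · exact ⟨0, by simp [jj_zero]⟩
        · obtain ⟨y, hy, e⟩ :=
            conj_mem_of_mem_normalizer hg (mem_map_of_mem Λ (zz_mem (Pi.single i 1) 1))
          obtain ⟨a, v, rfl⟩ := mem_KB_one.mp hy
          obtain rfl := hh g hg i a v e.symm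
          exact ⟨a, e.symm⟩
    obtain ⟨a, ha⟩ := this 1
    rw [ha, eq_one_of_wt (H.wt_eq (isConj_iff.mpr ⟨g, ha⟩))]
  have hs : (Perm.sign.comp σH) (ss (⟨0, hn⟩ : Fin n)) ≠ 1 := by
    rw [MonoidHom.comp_apply, σH_apply, jj_σ, sh_single _ 0, Perm.sign_swap (by simp)]
    decide
  obtain ⟨g, y, e, h2, h3⟩ := H.thompson (A := ℤˣ) (by decide) _ (ss_mem ⟨0, hn⟩) hs
  obtain ⟨w, hw⟩ := H.act g (h1 g (H.mem_N_one h3))
  rw [← hw _ _ e, map_mul, map_mul, map_inv, mul_inv_eq_one, mul_eq_left] at h2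
  exact hs h2

theorem moves {g : G} (hg : g ∈ N[(KB 1).map Λ]) {i : Fin n} {a v : KR n}
    (e : g * Λ (zz (Pi.single i 1)) * g⁻¹ = Λ (jj a 0 v)) (k : Fin n) :
    g * Λ (ee i) * g⁻¹ * Λ (zz (Pi.single k 1)) * (g * Λ (ee i) * g⁻¹)⁻¹ =
      Λ (jj (Pi.single k 1 + v k • a) 0 (v k • v)) := by
  have h1 := H.twoA hg i k
  rw [e, ← map_inv Λ (ee k), ← map_mul, ← map_mul, ee_conj, H.inj.eq_iff] at h1
  rcases mul_single v k with ⟨h2, h3⟩ | ⟨h2, h3⟩ <;> rw [h3] at h1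
  · simpa [h2] using h1
  · rcases ((tv_ee 1 i).conj hg).act _ (mem_map_of_mem Λ (zz_mem (Pi.single k 1) 1)) with h4 | h4
    · simpa using congrFun (jj_inj.mp (h1.mp h4)).1 k
    · rw [h4, e, ← map_mul, jj_mul, h2]; simp

theorem moves' {g : G} (hg : g ∈ N[(KB 1).map Λ]) {i : Fin n} {a v : KR n}
    (e : g * Λ (zz (Pi.single i 1)) * g⁻¹ = Λ (jj a 0 v)) (b : KR n) :
    g * Λ (ee i) * g⁻¹ * Λ (zz b) * (g * Λ (ee i) * g⁻¹)⁻¹ =
      Λ (jj (b + (∑ k, b k * v k) • a) 0 ((∑ k, b k * v k) • v)) := by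
  induction b using Pi.single_induction with
  | zero => simp [jj_zero]
  | add b b' hb hb' =>
    rw [zz_add, map_mul, ← conj_mul, hb, hb', ← map_mul, jj_mul]
    simp only [Pi.add_apply, add_mul, Finset.sum_add_distrib, add_smul, mul_zero, add_zero]
    rw [add_add_add_comm]
  | single k m =>
    rcases z2_cases m with rfl | rfl
    · simp [jj_zero]
    · rw [H.moves hg e k, Finset.sum_eq_single k (fun j _ hj => by simp [hj]) (by simp)]
      simp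

theorem exists_good (hn : 1 ≤ n) (k : Fin n) : ∃ g ∈ N[(KB 1).map Λ], ∃ i a,
    g * Λ (zz (Pi.single i 1)) * g⁻¹ = Λ (jj a 0 (Pi.single k 1)) := by
  obtain ⟨g, hg, i, a, v, e, hv⟩ := H.exists_ne hn
  obtain ⟨j, hj⟩ := Function.ne_iff.mp hv
  have hj : v j = 1 := (z2_cases _).resolve_left hj
  have h1 : ∑ k, (1 : KR n) k * v k = 1 := by
    refine (z2_cases _).resolve_left fun h => ?_
    have h2 := H.moves' hg e 1
    rw [h, zero_smul, zero_smul, add_zero] at h2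
    obtain ⟨w, hw⟩ := H.act _ h2
    have h3 := congrArg KW.σ (hw _ _ (H.moves hg e j))
    rw [mul_σ, mul_σ, inv_σ, jj_σ, jj_σ, show sh (0 : KR n) = 1 by ext <;> simp, mul_one,
      mul_inv_cancel] at h3
    simpa [hj] using Equiv.congr_fun h3 (j, 0)
  have h2 : v = Pi.single j 1 := by
    funext l
    by_cases hl : l = j
    · simp [hl, hj]
    rw [Pi.single_eq_of_ne hl]
    refine (z2_cases _).resolve_right fun hl' => ?_
    have c1 := H.moves' hg e 1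
    rw [h1, one_smul, one_smul] at c1
    have c2 : Λ (ee l) * (Λ (ee j) * Λ (jj (1 + a) 0 v) * (Λ (ee j))⁻¹) * (Λ (ee l))⁻¹ =
        Λ (zz (1 + Pi.single j 1 + Pi.single l 1)) * Λ (jj a 0 v) := by
      simp only [← map_inv, ← map_mul]
      rw [ee_conj, ee_conj, jj_mul, ((mul_single v j).resolve_left (by simp [hj])).2,
        ((mul_single v l).resolve_left (by simp [hl'])).2]
      simp only [mul_zero, add_zero, zero_add]
      congr 2; ring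
    have c3 := H.moves' hg e (1 + Pi.single j 1 + Pi.single l 1)
    have c4 : ∑ k, (1 + Pi.single j 1 + Pi.single l 1 : KR n) k * v k = 1 := by
      simp only [Pi.add_apply, add_mul, Finset.sum_add_distrib, h1]
      rw [Finset.sum_eq_single j (fun j _ hj => by simp [hj]) (by simp),
        Finset.sum_eq_single l (fun j _ hj => by simp [hj]) (by simp)]
      simp [hj, hl', add_assoc, z2_add]
    have c5 := ((tv_ee (Λ := Λ) 1 i).conj hg).fix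
    rw [e] at c5
    rw [c4, one_smul, one_smul] at c3
    have c6 : IsConj (Λ (zz 1)) (Λ (zz (1 + Pi.single j 1 + Pi.single l 1))) := by
      refine (isConj_iff.mpr ⟨_, c1⟩).trans ((isConj_iff.mpr ⟨_, rfl⟩).trans
        ((isConj_iff.mpr ⟨_, c2⟩).trans (isConj_iff.mpr ⟨g * Λ (ee i) * g⁻¹, ?_⟩)))
      rw [← conj_mul, c3, c5, ← map_mul, jj_mul]
      simp [add_assoc, kr_add]
    simpa [hl] using congrFun (eq_one_of_wt (H.wt_eq c6)) l
  subst h2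
  refine ⟨Λ (bp (swap j k)) * g, mul_mem (mem_normalizer_fintype ?_) hg, i, a ∘ ⇑(swap j k)⁻¹, ?_⟩
  · rintro _ ⟨x, hx, rfl⟩
    obtain ⟨a, v, rfl⟩ := mem_KB_one.mp hx
    exact ⟨_, mem_KB_one.mpr ⟨_, _, bp_conj (swap j k) a 0 v⟩, by simp⟩
  · rw [mul_inv_rev, show ∀ x y z : G, x * y * z * (y⁻¹ * x⁻¹) = x * (y * z * y⁻¹) * x⁻¹ by
      intros; group, e, ← map_inv, ← map_mul, ← map_mul, bp_conj, single_comp, swap_apply_left]
    rfl

theorem isConj_zz_of_one (hn : 1 ≤ n) {x : KW n} (hx : x ∈ KB 1) :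
    ∃ b, IsConj (Λ x) (Λ (zz b)) := by
  obtain ⟨a, v, rfl⟩ := mem_KB_one.mp hx
  generalize hm : wt v = m
  induction m using Nat.strong_induction_on generalizing a v with
  | _ m ih =>
  by_cases hv : v = 0
  · exact ⟨a, by rw [hv]⟩
  obtain ⟨k, hk⟩ := Function.ne_iff.mp hv
  have hk : v k = 1 := (z2_cases _).resolve_left hk
  obtain ⟨g, hg, i, a', e⟩ := H.exists_good hn k
  have h1 : ∃ a'', IsConj (Λ (jj a 0 v)) (Λ (jj a'' 0 (v + Pi.single k 1))) := by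
    rcases ((tv_ee 1 i).conj hg).act _ (mem_map_of_mem Λ hx) with h | h
    · refine ⟨a + (Pi.single k 1 + a'), (isConj_iff.mpr ⟨Λ (ee k), rfl⟩).trans
        (isConj_iff.mpr ⟨g * Λ (ee i) * g⁻¹, ?_⟩)⟩
      rw [← map_inv Λ (ee k), ← map_mul, ← map_mul, ee_conj, ← jj_mul_zz, map_mul, ← conj_mul, h,
        ((mul_single v k).resolve_left (by simp [hk])).2, H.moves hg e k, ← map_mul, jj_mul]
      simp
    · refine ⟨a + a', isConj_iff.mpr ⟨_, h.trans ?_⟩⟩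
      rw [e, ← map_mul, jj_mul]; simp
  obtain ⟨a'', h1⟩ := h1
  obtain ⟨b, hb⟩ := ih (wt (v + Pi.single k 1)) (by
    rw [← hm]
    refine Finset.card_lt_card ⟨fun l => ?_, fun hh => ?_⟩
    · by_cases hl : l = k <;> simp [hl, hk]
    · simpa [hk] using hh (x := k) (by simpa using hk)) a'' _ (mem_KB_one.mpr ⟨_, _, rfl⟩) rfl
  exact ⟨b, h1.trans hb⟩

theorem isConj_one_of_single (i : Fin n) {x : KW n} (hx : x ∈ KB (1 + Pi.single i 1)) :
    ∃ y ∈ KB 1, IsConj (Λ x) (Λ y) := by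
  have hε : epsH (ee i) ≠ 1 := by rw [epsH_jj]; simp
  obtain ⟨g, hg, hge⟩ : ∃ g ∈ N[(KB (1 + Pi.single i 1)).map Λ],
      g * Λ (ee i) * g⁻¹ ∈ (KB 1).map Λ := by
    obtain ⟨g, y, e, h2, h3⟩ := H.thompson (A := Multiplicative (ZMod 2)) (by decide) _
      (ee_mem i) hε
    obtain ⟨π, h4⟩ := H.type_eq h3
    have h5 : Λ (bp π⁻¹) * g ∈ N[(KB (1 + Pi.single i 1)).map Λ] := by
      refine mem_normalizer_fintype fun z hz => ?_
      obtain ⟨_, ⟨a, d, v, rfl, h5, h6⟩, e⟩ := h4.le (conj_mem_conj hz g)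
      refine ⟨bp π⁻¹ * jj a d v * (bp π⁻¹)⁻¹, ?_, by simp [e, mul_assoc]⟩
      rw [bp_conj]
      exact jj_mem_KB.mpr ⟨funext fun j => by simpa using congrFun h5 (π j),
        funext fun j => by simpa using congrFun h6 (π j)⟩
    refine ⟨_, h5, ?_⟩
    obtain ⟨y', hy', e'⟩ := conj_mem_of_mem_normalizer h5 (mem_map_of_mem Λ (ee_mem i))
    have h6 : y' = bp π⁻¹ * y * (bp π⁻¹)⁻¹ := H.inj (by simp [e', ← e, mul_assoc])
    have h7 : epsH y' = 1 := by rw [h6, map_mul, map_mul, h2, map_inv, mul_one, mul_inv_cancel]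
    obtain ⟨a, d, v, rfl, -, rfl | rfl⟩ := mem_KB_single.mp hy'
    · exact ⟨_, mem_KB_one.mpr ⟨_, _, rfl⟩, e'⟩
    · rw [epsH_jj] at h7; simp at h7
  have tv := (tv_ss (Λ := Λ) (1 + Pi.single i 1) i).conj hg
  have key : ¬ (g * Λ (ss i) * g⁻¹ * Λ (zz (Pi.single i 1)) * (g * Λ (ss i) * g⁻¹)⁻¹ =
      Λ (zz (Pi.single i 1)) ∨ Λ (ss i) * (g * Λ (zz (Pi.single i 1)) * g⁻¹) * (Λ (ss i))⁻¹ =
        g * Λ (zz (Pi.single i 1)) * g⁻¹) := fun h => by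
    obtain ⟨c, hc, h, -, h2, h3⟩ := H.exists_conj_le (tv_ss _ i) (tv_ss _ i) hg
      (fun _ => adj_single i) (fun _ => adj_single i) h
    have h4 := mul_mem (inv_mem (H.mem_N_one h2)) (H.mem_N_one h3)
    rw [inv_mul_cancel_left] at h4
    have h5 := hc _ (conj_mem_of_mem_normalizer hg (mem_map_of_mem Λ (ee_mem i)))
    have h6 := conj_mem_of_mem_normalizer' h4 hge
    rw [show (c * g)⁻¹ * (g * Λ (ee i) * g⁻¹) * (c * g) = g⁻¹ * c⁻¹ * (g * Λ (ee i) * g⁻¹ * c) * g by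
      group, h5, show g⁻¹ * c⁻¹ * (c * (g * Λ (ee i) * g⁻¹)) * g = Λ (ee i) by group] at h6
    obtain ⟨y, hy, e⟩ := h6
    obtain ⟨a, v, rfl⟩ := mem_KB_one.mp hy
    simpa using congrFun (jj_inj.mp (H.inj e)).2.1 i
  push Not at key
  obtain ⟨y, hy, e⟩ := tv.mem
  obtain ⟨a', d', v', rfl, h1, rfl | rfl⟩ := mem_KB_single.mp hy
  · refine absurd ?_ key.2
    rw [← e, ← map_inv, ← map_mul, ← map_mul, ss_conj]; simp
  have h2 := (tv.act _ (mem_map_of_mem Λ (zz_mem (Pi.single i 1) _))).resolve_left key.1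
  have hx' := hx
  obtain ⟨a, d, v, rfl, h3, rfl | rfl⟩ := mem_KB_single.mp hx
  · exact ⟨_, mem_KB_one.mpr ⟨_, _, rfl⟩, IsConj.refl _⟩
  rcases tv.act _ (mem_map_of_mem Λ hx') with h | h
  · refine ⟨jj a (Pi.single i 1) v * (zz (Pi.single i 1) * jj a' (Pi.single i 1) v'), ?_,
      (isConj_iff.mpr ⟨Λ (ss i), rfl⟩).trans (isConj_iff.mpr ⟨g * Λ (ss i) * g⁻¹, ?_⟩)⟩
    · rw [jj_mul, jj_mul]; exact jj_mem_KB.mpr ⟨by simp [kr_add], by simp [kr_add]⟩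
    rw [← map_inv Λ (ss i), ← map_mul, ← map_mul, ss_conj, ← jj_mul_zz, map_mul, ← conj_mul, h,
      single_mul_single, h2, ← e, ← map_mul, ← map_mul]
  · refine ⟨jj a (Pi.single i 1) v * jj a' (Pi.single i 1) v', ?_, isConj_iff.mpr ⟨_, h.trans ?_⟩⟩
    · rw [jj_mul]; exact jj_mem_KB.mpr ⟨by simp [kr_add], by simp [kr_add]⟩
    rw [← e, ← map_mul]

theorem isConj_zz (hn : 1 ≤ n) {u : G} (hu : u * u = 1) : ∃ b, IsConj u (Λ (zz b)) := by
  have p3 : IsPGroup 2 (zpowers u) := by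
    rintro ⟨_, i, rfl⟩
    refine ⟨1, Subtype.ext ?_⟩
    change (u ^ i) ^ 2 ^ 1 = 1
    rw [← zpow_natCast, zpow_comm, zpow_natCast, pow_one, pow_two, hu, one_zpow]
  obtain ⟨g, -, hg⟩ := H.syl.exists_conj_le p3 le_top
  obtain ⟨w, -, e⟩ := hg (conj_mem_conj (mem_zpowers u) g)
  obtain ⟨x, h1, h2⟩ := exists_isConj_KB (w := w)
    (H.inj (by rw [map_mul, e, conj_mul, hu, map_one]; simp))
  have h3 : IsConj u (Λ x) := (isConj_iff.mpr ⟨g, e.symm⟩).trans (Λ.map_isConj h1)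
  rcases h2 with h2 | ⟨i, h2⟩
  · obtain ⟨b, hb⟩ := H.isConj_zz_of_one hn h2
    exact ⟨b, h3.trans hb⟩
  · obtain ⟨y, hy, h4⟩ := H.isConj_one_of_single i h2
    obtain ⟨b, hb⟩ := H.isConj_zz_of_one hn hy
    exact ⟨b, h3.trans (h4.trans hb)⟩

theorem card_classes (hn : 1 ≤ n) :
    Nat.card {c : ConjClasses G // ∃ x ∈ c.carrier, orderOf x = 2} = n := by
  classical
  have h1 : ∀ m : Fin n, ∃ a : KR n, wt a = m + 1 := fun m => by
    obtain ⟨s, -, hs⟩ := Finset.exists_subset_card_eq (s := (Finset.univ : Finset (Fin n)))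
      (n := m + 1) (by simp)
    exact ⟨fun i => if i ∈ s then 1 else 0, by rw [← hs, wt]; congr 1; ext i; simp⟩
  choose a ha using h1
  have h2 : ∀ b : KR n, Λ (zz b) = 1 ↔ wt b = 0 := fun b => by
    rw [← map_one Λ, H.inj.eq_iff, ← jj_zero, jj_inj, wt, Finset.card_eq_zero,
      Finset.filter_eq_empty_iff]
    exact ⟨fun h i _ => by simp [h.1], fun h =>
      ⟨funext fun i => (z2_cases _).resolve_right (h (Finset.mem_univ i)), rfl, rfl⟩⟩
  let f : Fin n → {c : ConjClasses G // ∃ x ∈ c.carrier, orderOf x = 2} := fun m =>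
    ⟨ConjClasses.mk (Λ (zz (a m))), _, ConjClasses.mem_carrier_mk, orderOf_eq_prime
      (by rw [pow_two, ← map_mul, KB_sq (zz_mem _ 1), map_one]) (by rw [Ne, h2, ha]; omega)⟩
  refine (Nat.card_eq_of_bijective f ⟨fun m m' h => ?_, ?_⟩).symm.trans (Nat.card_fin n)
  · have := H.wt_eq (ConjClasses.mk_eq_mk_iff_isConj.mp (congrArg Subtype.val h))
    rw [ha, ha] at this
    exact Fin.ext (by omega)
  · rintro ⟨c, x, hx, h3⟩
    obtain ⟨b, hb⟩ := H.isConj_zz hn (u := x) (by rw [← pow_two, ← h3, pow_orderOf_eq_one])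
    have h4 : wt b ≠ 0 := fun h => by
      rw [(h2 b).mpr h, isConj_one_left] at hb
      simp [hb] at h3
    have h5 : wt b ≤ n := (Finset.card_le_univ _).trans (by simp)
    obtain ⟨π, hπ⟩ := exists_comp_of_wt (a := b) (b := a ⟨wt b - 1, by omega⟩) (by rw [ha]; simp; omega)
    refine ⟨⟨wt b - 1, by omega⟩, Subtype.ext ?_⟩
    refine (ConjClasses.mk_eq_mk_iff_isConj.mpr (hb.trans (Λ.map_isConj ?_)).symm).trans
      (ConjClasses.mem_carrier_iff_mk_eq.mp hx)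
    exact isConj_iff.mpr ⟨bp π, by rw [bp_conj, hπ]; rfl⟩

end KH

end Cfsg.Lib.Kondo
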