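import Mathlib

/-!
The wreath product `Z₂ ≀ S_{2n}` with its subgroup `J = D₈ⁿ` in Heisenberg coordinates.
-/

set_option autoImplicit false

namespace Cfsg.Lib.Kondo

open Equiv

/-- the index set of the cycles of the central involution -/
abbrev KP (n : ℕ) := Fin n × ZMod 2

/-- coordinate vectors -/
abbrev KR (n : ℕ) := Fin n → ZMod 2

/-- the wreath product `Z₂ ≀ S_{2n}` -/
@[ext] structure KW (n : ℕ) where
  c : KP n → ZMod 2
  σ : Perm (KP n)

namespace KW

variable {n : ℕ}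

instance : Mul (KW n) := ⟨fun x y => ⟨fun p => x.c (y.σ p) + y.c p, x.σ * y.σ⟩⟩
instance : One (KW n) := ⟨⟨fun _ => 0, 1⟩⟩
instance : Inv (KW n) := ⟨fun x => ⟨fun p => x.c (x.σ⁻¹ p), x.σ⁻¹⟩⟩

@[simp] theorem mul_c (x y : KW n) (p : KP n) : (x * y).c p = x.c (y.σ p) + y.c p := rfl
@[simp] theorem mul_σ (x y : KW n) : (x * y).σ = x.σ * y.σ := rfl
@[simp] theorem one_c (p : KP n) : (1 : KW n).c p = 0 := rfl
@[simp] theorem one_σ : (1 : KW n).σ = 1 := rfl
@[simp] theorem inv_c (x : KW n) (p : KP n) : x⁻¹.c p = x.c (x.σ⁻¹ p) := rfl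
@[simp] theorem inv_σ (x : KW n) : x⁻¹.σ = x.σ⁻¹ := rfl

instance : Group (KW n) :=
  Group.ofLeftAxioms (fun x y z => by ext p <;> simp [add_assoc, mul_assoc])
    (fun x => by ext p <;> simp) (fun x => by ext p <;> simp [CharTwo.add_self_eq_zero])

instance : Finite (KW n) :=
  Finite.of_injective (fun x : KW n => (x.c, x.σ)) fun _ _ h =>
    KW.ext (congrArg Prod.fst h) (congrArg Prod.snd h)

/-- the permutation part -/
def σH : KW n →* Perm (KP n) := MonoidHom.mk' (fun x => x.σ) fun _ _ => rfl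

@[simp] theorem σH_apply (x : KW n) : σH x = x.σ := rfl

end KW

open KW

variable {n : ℕ}

theorem z2_cases (x : ZMod 2) : x = 0 ∨ x = 1 := by revert x; decide

theorem z2_add (x : ZMod 2) : x + x = 0 := by revert x; decide

/-- shift inside the blocks -/
def sh (v : KR n) : Perm (KP n) where
  toFun p := (p.1, p.2 + v p.1)
  invFun p := (p.1, p.2 + v p.1)
  left_inv p := by simp [add_assoc, z2_add]
  right_inv p := by simp [add_assoc, z2_add]

@[simp] theorem sh_apply (v : KR n) (p : KP n) : sh v p = (p.1, p.2 + v p.1) := rfl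
@[simp] theorem sh_inv (v : KR n) : (sh v)⁻¹ = sh v := rfl

/-- the elements of `J` -/
def jj (a d v : KR n) : KW n := ⟨fun p => a p.1 + p.2 * d p.1, sh v⟩

@[simp] theorem jj_c (a d v : KR n) (p : KP n) : (jj a d v).c p = a p.1 + p.2 * d p.1 := rfl
@[simp] theorem jj_σ (a d v : KR n) : (jj a d v).σ = sh v := rfl

theorem jj_mul (a d v a' d' v' : KR n) :
    jj a d v * jj a' d' v' = jj (a + a' + v' * d) (d + d') (v + v') := by
  ext p
  · simp; ring
  · simp
  · simp; ring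

theorem jj_inv (a d v : KR n) : (jj a d v)⁻¹ = jj (a + v * d) d v := by
  ext p
  · simp; ring
  · simp
  · simp

theorem jj_zero : jj (0 : KR n) 0 0 = 1 := by ext p <;> simp

theorem jj_inj {a d v a' d' v' : KR n} :
    jj a d v = jj a' d' v' ↔ a = a' ∧ d = d' ∧ v = v' := by
  refine ⟨fun h => ?_, by rintro ⟨rfl, rfl, rfl⟩; rfl⟩
  have h1 : ∀ p, (jj a d v).c p = (jj a' d' v').c p := fun p => by rw [h]
  have h2 : ∀ p, (jj a d v).σ p = (jj a' d' v').σ p := fun p => by rw [h]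
  have ha : a = a' := funext fun i => by simpa using h1 (i, 0)
  subst ha
  exact ⟨rfl, funext fun i => by simpa using h1 (i, 1), funext fun i => by simpa using h2 (i, 0)⟩

theorem kr_add (a : KR n) : a + a = 0 := funext fun i => z2_add (a i)

theorem jj_conj (a d v a' d' v' : KR n) :
    jj a d v * jj a' d' v' * (jj a d v)⁻¹ = jj (a' + v' * d + v * d') d' v' := by
  rw [mul_inv_eq_iff_eq_mul, jj_mul, jj_mul, jj_inj]
  refine ⟨funext fun i => ?_, add_comm _ _, add_comm _ _⟩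
  simp only [Pi.add_apply, Pi.mul_apply]
  linear_combination (-1 : ZMod 2) * z2_add (v i * d' i)

theorem jj_comm {a d v a' d' v' : KR n} :
    jj a d v * jj a' d' v' = jj a' d' v' * jj a d v ↔ v' * d = v * d' := by
  rw [jj_mul, jj_mul, jj_inj, add_comm a' a, add_right_inj]
  exact ⟨fun h => h.1, fun h => ⟨h, add_comm _ _, add_comm _ _⟩⟩

theorem jj_sq {a d v : KR n} : jj a d v * jj a d v = 1 ↔ v * d = 0 := by
  rw [jj_mul, ← jj_zero, jj_inj, kr_add, kr_add, kr_add, zero_add]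
  simp

/-- the subgroup `J` -/
def KJ (n : ℕ) : Subgroup (KW n) where
  carrier := {w | ∃ a d v, w = jj a d v}
  one_mem' := ⟨0, 0, 0, jj_zero.symm⟩
  mul_mem' := by rintro _ _ ⟨a, d, v, rfl⟩ ⟨a', d', v', rfl⟩; exact ⟨_, _, _, jj_mul ..⟩
  inv_mem' := by rintro _ ⟨a, d, v, rfl⟩; exact ⟨_, _, _, jj_inv ..⟩

theorem jj_mem (a d v : KR n) : jj a d v ∈ KJ n := ⟨a, d, v, rfl⟩

/-- the elementary abelian subgroups of maximal rank -/
def KB (β : KR n) : Subgroup (KW n) where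
  carrier := {w | ∃ a d v, w = jj a d v ∧ β * d = 0 ∧ (1 + β) * v = 0}
  one_mem' := ⟨0, 0, 0, jj_zero.symm, by simp, by simp⟩
  mul_mem' := by
    rintro _ _ ⟨a, d, v, rfl, h1, h2⟩ ⟨a', d', v', rfl, h3, h4⟩
    exact ⟨_, _, _, jj_mul .., by rw [mul_add, h1, h3, add_zero], by rw [mul_add, h2, h4, add_zero]⟩
  inv_mem' := by rintro _ ⟨a, d, v, rfl, h⟩; exact ⟨_, _, _, jj_inv .., h⟩

theorem jj_mem_KB {β a d v : KR n} : jj a d v ∈ KB β ↔ β * d = 0 ∧ (1 + β) * v = 0 := by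
  refine ⟨?_, fun h => ⟨a, d, v, rfl, h⟩⟩
  rintro ⟨a', d', v', e, h⟩
  obtain ⟨-, rfl, rfl⟩ := jj_inj.mp e
  exact h

theorem KB_le (β : KR n) : KB β ≤ KJ n := by rintro _ ⟨a, d, v, rfl, -⟩; exact jj_mem ..

theorem KB_mul_eq_zero {β d v : KR n} (h1 : β * d = 0) (h2 : (1 + β) * v = 0) : v * d = 0 := by
  funext i
  have e1 := congrFun h1 i
  have e2 := congrFun h2 i
  simp only [Pi.add_apply, Pi.mul_apply, Pi.zero_apply, Pi.one_apply] at *
  linear_combination (d i) * e2 - (v i) * e1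

theorem KB_comm {β : KR n} {x y : KW n} (hx : x ∈ KB β) (hy : y ∈ KB β) : x * y = y * x := by
  obtain ⟨a, d, v, rfl, h1, h2⟩ := hx
  obtain ⟨a', d', v', rfl, h3, h4⟩ := hy
  rw [jj_comm, KB_mul_eq_zero h1 h4, KB_mul_eq_zero h3 h2]

theorem KB_sq {β : KR n} {x : KW n} (hx : x ∈ KB β) : x * x = 1 := by
  obtain ⟨a, d, v, rfl, h1, h2⟩ := hx
  rw [jj_sq, KB_mul_eq_zero h1 h2]

theorem KB_conj {β : KR n} {x y : KW n} (hx : x ∈ KJ n) (hy : y ∈ KB β) : x * y * x⁻¹ ∈ KB β := by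
  obtain ⟨a, d, v, rfl⟩ := hx
  obtain ⟨a', d', v', rfl, h⟩ := hy
  rw [jj_conj]; exact jj_mem_KB.mpr h

theorem card_KB (β : KR n) : Nat.card (KB β) = 4 ^ n := by
  have hb : ∀ i, β i * β i = β i := fun i => by rcases z2_cases (β i) with h | h <;> simp [h]
  let f : KR n × KR n → KB β := fun p => ⟨jj p.1 ((1 + β) * p.2) (β * p.2), jj_mem_KB.mpr ⟨by
    funext i
    simp only [Pi.add_apply, Pi.mul_apply, Pi.zero_apply, Pi.one_apply]
    linear_combination (p.2 i) * hb i + (p.2 i) * z2_add (β i), by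
    funext i
    simp only [Pi.add_apply, Pi.mul_apply, Pi.zero_apply, Pi.one_apply]
    linear_combination (p.2 i) * hb i + (p.2 i) * z2_add (β i)⟩⟩
  have hf : Function.Bijective f := by
    constructor
    · rintro ⟨a, u⟩ ⟨a', u'⟩ h
      obtain ⟨h1, h2, h3⟩ := jj_inj.mp (congrArg Subtype.val h)
      refine Prod.ext h1 ?_
      simp only at h2 h3 ⊢
      linear_combination h2 - h3
    · rintro ⟨_, a, d, v, rfl, h1, h2⟩
      refine ⟨(a, d + v), Subtype.ext (jj_inj.mpr ⟨rfl, ?_, ?_⟩)⟩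
      · simp only
        linear_combination h1 + h2
      · funext i
        have e1 := congrFun h1 i
        have e2 := congrFun h2 i
        simp only [Pi.add_apply, Pi.mul_apply, Pi.zero_apply, Pi.one_apply] at *
        linear_combination e1 + e2 - z2_add (v i)
  rw [← Nat.card_eq_of_bijective f hf, Nat.card_prod, Nat.card_fun]
  simp [← mul_pow]

theorem KB_inj {β β' : KR n} (h : KB β ≤ KB β') : β = β' := by
  funext i
  rcases z2_cases (β i) with e | e
  · have : jj 0 (Pi.single i 1) 0 ∈ KB β := jj_mem_KB.mpr ⟨by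
      funext j; by_cases hj : j = i <;> simp [hj, e], by simp⟩
    have := congrFun (jj_mem_KB.mp (h this)).1 i
    simp at this; rw [e, this]
  · have : jj 0 0 (Pi.single i 1) ∈ KB β := jj_mem_KB.mpr ⟨by simp, by
      funext j; by_cases hj : j = i <;> simp [hj, e, z2_add]⟩
    have := congrFun (jj_mem_KB.mp (h this)).2 i
    simp at this
    rw [e]; linear_combination this - z2_add (β' i)

theorem isPGroup_KJ : IsPGroup 2 (KJ n) := by
  rintro ⟨_, a, d, v, rfl⟩
  refine ⟨2, Subtype.ext ?_⟩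
  change (jj a d v) ^ (2 * 2) = 1
  rw [pow_mul, pow_two, pow_two, jj_mul, jj_sq, kr_add v, zero_mul]

/-- an elementary abelian subgroup of `J` lies in some `B_β` -/
theorem exists_le_KB {K : Subgroup (KW n)} (hK : K ≤ KJ n) (h2 : ∀ x ∈ K, x * x = 1) :
    ∃ β, K ≤ KB β := by
  classical
  have hc : ∀ x ∈ K, ∀ y ∈ K, x * y = y * x := fun x hx y hy => by
    have h1 : ∀ z ∈ K, z⁻¹ = z := fun z hz => inv_eq_of_mul_eq_one_left (h2 z hz)
    rw [← h1 _ (mul_mem hx hy), mul_inv_rev, h1 x hx, h1 y hy]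
  refine ⟨fun i => if ∃ a d v, jj a d v ∈ K ∧ v i = 1 then 1 else 0, fun x hx => ?_⟩
  obtain ⟨a, d, v, rfl⟩ := hK hx
  refine jj_mem_KB.mpr ⟨funext fun i => ?_, funext fun i => ?_⟩
  · simp only [Pi.mul_apply, Pi.zero_apply]
    split_ifs with h
    · obtain ⟨a', d', v', h1, h3⟩ := h
      have e1 := congrFun (jj_comm.mp (hc _ hx _ h1)) i
      have e2 := congrFun (jj_sq.mp (h2 _ h1)) i
      simp only [Pi.mul_apply, h3, one_mul, Pi.zero_apply] at e1 e2
      rw [e1, e2]; simp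
    · simp
  · simp only [Pi.mul_apply, Pi.zero_apply, Pi.add_apply, Pi.one_apply]
    split_ifs with h
    · simp [z2_add]
    · rcases z2_cases (v i) with e | e
      · simp [e]
      · exact absurd ⟨a, d, v, hx, e⟩ h

/-- block permutations -/
def bp (π : Perm (Fin n)) : KW n := ⟨fun _ => 0, prodCongr π 1⟩

@[simp] theorem bp_c (π : Perm (Fin n)) (p : KP n) : (bp π).c p = 0 := rfl
@[simp] theorem bp_σ (π : Perm (Fin n)) (p : KP n) : (bp π).σ p = (π p.1, p.2) := rfl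
@[simp] theorem bp_σ_inv (π : Perm (Fin n)) (p : KP n) : (bp π).σ⁻¹ p = (π⁻¹ p.1, p.2) := rfl

theorem bp_conj (π : Perm (Fin n)) (a d v : KR n) :
    bp π * jj a d v * (bp π)⁻¹ = jj (a ∘ ⇑π⁻¹) (d ∘ ⇑π⁻¹) (v ∘ ⇑π⁻¹) := by
  rw [mul_inv_eq_iff_eq_mul]
  ext p <;> simp

/-- an element preserving the blocks -/
theorem exists_eq_bp_mul {w : KW n} (h : ∀ i, (w.σ (i, 0)).1 = (w.σ (i, 1)).1) :
    ∃ π a d v, w = bp π * jj a d v := by
  have h' : ∀ i x, (w.σ (i, x)).1 = (w.σ (i, 0)).1 := fun i x => by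
    rcases z2_cases x with rfl | rfl
    · rfl
    · exact (h i).symm
  have h2 : ∀ i, (w.σ (i, 1)).2 = 1 + (w.σ (i, 0)).2 := fun i => by
    have : (w.σ (i, 1)).2 ≠ (w.σ (i, 0)).2 := fun e => by
      have := w.σ.injective (Prod.ext (h i).symm e)
      simp at this
    revert this
    generalize (w.σ (i, 1)).2 = x
    generalize (w.σ (i, 0)).2 = y
    revert x y; decide
  have h3 : ∀ i x, (w.σ (i, x)).2 = x + (w.σ (i, 0)).2 := fun i x => by
    rcases z2_cases x with rfl | rfl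
    · simp
    · exact h2 i
  have hi : Function.Injective fun i => (w.σ (i, 0)).1 := fun i j e => by
    have : w.σ (i, (w.σ (j, 0)).2 + (w.σ (i, 0)).2) = w.σ (j, 0) :=
      Prod.ext ((h' _ _).trans e) (by rw [h3, add_assoc, z2_add, add_zero])
    exact congrArg Prod.fst (w.σ.injective this)
  refine ⟨Equiv.ofBijective _ (Finite.injective_iff_bijective.mp hi), fun i => w.c (i, 0),
    fun i => w.c (i, 0) + w.c (i, 1), fun i => (w.σ (i, 0)).2, ?_⟩
  ext ⟨i, x⟩
  · rcases z2_cases x with rfl | rfl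
    · simp
    · simp [← add_assoc, z2_add]
  · simp [h' i x]
  · simp [h3 i x]

end Cfsg.Lib.Kondo
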